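import Mathlib
import Groth.Agent.H36.DetLength

set_option autoImplicit false
set_option linter.unusedSectionVars false
set_option linter.unusedVariables false
universe u

/-!
# Wiebe's determinant lemma in a Noetherian local ring  (helper81)

`θ = a x` with `θ` a regular sequence in the maximal ideal of a Noetherian local ring `R`.  Then
`(θ) : det a = (x)`; in particular `det a ∉ (θ)` if `(x) ≠ R`.  (Also: `det a` modulo `(θ)` only
depends on `θ` and `x`.)
-/

namespace Groth.Agent.H81.Wat

open RingTheory.Sequence IsLocalRing Matrix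

variable {R : Type u} [CommRing R] {n : ℕ}

/-- the ideal generated by the members of a family other than the `i`-th -/
def others (θ : Fin n → R) (i : Fin n) : Ideal R := Ideal.span (Set.range (Function.update θ i 0))

theorem mem_others_of_ne (θ : Fin n → R) {i l : Fin n} (h : l ≠ i) : θ l ∈ others θ i := by
  apply Ideal.subset_span
  exact ⟨l, by rw [Function.update_of_ne h]⟩

theorem others_update (θ : Fin n → R) (i : Fin n) (t : R) :
    others (Function.update θ i t) i = others θ i := by
  unfold others
  rw [Function.update_idem]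

theorem span_range_update (θ : Fin n → R) (i : Fin n) (t : R) :
    Ideal.span (Set.range (Function.update θ i t)) = others θ i ⊔ Ideal.span {t} := by
  apply le_antisymm
  · rw [Ideal.span_le]
    rintro _ ⟨l, rfl⟩
    by_cases h : l = i
    · subst h
      rw [Function.update_self]
      exact Ideal.mem_sup_right (Ideal.subset_span rfl)
    · rw [Function.update_of_ne h]
      exact Ideal.mem_sup_left (mem_others_of_ne θ h)
  · rw [sup_le_iff]
    constructor
    · unfold others
      rw [Ideal.span_le]
      rintro _ ⟨l, rfl⟩
      by_cases h : l = i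
      · subst h
        rw [Function.update_self]
        exact zero_mem _
      · rw [Function.update_of_ne h]
        apply Ideal.subset_span
        exact ⟨l, by rw [Function.update_of_ne h]⟩
    · rw [Ideal.span_le]
      rintro _ rfl
      apply Ideal.subset_span
      exact ⟨i, by rw [Function.update_self]⟩

theorem span_range_eq (θ : Fin n → R) (i : Fin n) :
    Ideal.span (Set.range θ) = others θ i ⊔ Ideal.span {θ i} := by
  conv_lhs => rw [← Function.update_eq_self i θ]
  exact span_range_update θ i (θ i)

theorem others_le (θ : Fin n → R) (i : Fin n) : others θ i ≤ Ideal.span (Set.range θ) := by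
  rw [span_range_eq θ i]
  exact le_sup_left

/-- `a` is a nonzerodivisor modulo `I` -/
def RegMod (I : Ideal R) (a : R) : Prop := ∀ r, a * r ∈ I → r ∈ I

theorem RegMod.mul {I : Ideal R} {a b : R} (ha : RegMod I a) (hb : RegMod I b) :
    RegMod I (a * b) := by
  intro r hr
  rw [mul_assoc] at hr
  exact hb r (ha _ hr)

theorem regMod_iff (I : Ideal R) (a : R) :
    RegMod I a ↔ IsSMulRegular (R ⧸ (I • (⊤ : Submodule R R))) a := by
  have hI : (I • (⊤ : Submodule R R)) = I := by rw [smul_eq_mul, Ideal.mul_top]
  constructor
  · intro h u v huv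
    obtain ⟨u, rfl⟩ := Submodule.Quotient.mk_surjective _ u
    obtain ⟨v, rfl⟩ := Submodule.Quotient.mk_surjective _ v
    simp only at huv
    rw [← Submodule.Quotient.mk_smul, ← Submodule.Quotient.mk_smul, Submodule.Quotient.eq, hI,
      smul_eq_mul, smul_eq_mul, ← mul_sub] at huv
    rw [Submodule.Quotient.eq, hI]
    exact h _ huv
  · intro h r hr
    have h1 : a • (Submodule.Quotient.mk r : R ⧸ (I • (⊤ : Submodule R R))) = a • 0 := by
      rw [smul_zero, ← Submodule.Quotient.mk_smul, Submodule.Quotient.mk_eq_zero, hI]
      exact hr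
    have h2 := h h1
    rw [Submodule.Quotient.mk_eq_zero, hI] at h2
    exact h2



/-- the list of the members of the family other than the `i`-th -/
noncomputable def restList (θ : Fin n → R) (i : Fin n) : List R :=
  ((Finset.univ.erase i).val.map θ).toList

theorem perm_ofFn_update (θ : Fin n → R) (i : Fin n) (y : R) :
    List.Perm (List.ofFn (Function.update θ i y)) (restList θ i ++ [y]) := by
  refine List.Perm.trans ?_ (List.perm_append_singleton y (restList θ i)).symm
  rw [← Multiset.coe_eq_coe, ← Fin.univ_val_map, ← Multiset.cons_coe]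
  unfold restList
  rw [Multiset.coe_toList]
  have h1 : (Finset.univ : Finset (Fin n)).val = i ::ₘ (Finset.univ.erase i).val := by
    rw [Finset.erase_val, Multiset.cons_erase (Finset.mem_univ_val i)]
  conv_lhs => rw [h1]
  rw [Multiset.map_cons, Function.update_self]
  congr 1
  apply Multiset.map_congr rfl
  intro l hl
  have : l ≠ i := Finset.ne_of_mem_erase (Finset.mem_val.mp hl)
  rw [Function.update_of_ne this]

theorem perm_ofFn (θ : Fin n → R) (i : Fin n) :
    List.Perm (List.ofFn θ) (restList θ i ++ [θ i]) := by
  have := perm_ofFn_update θ i (θ i)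
  rwa [Function.update_eq_self] at this

theorem ofList_restList (θ : Fin n → R) (i : Fin n) : Ideal.ofList (restList θ i) = others θ i := by
  unfold Ideal.ofList others restList
  apply le_antisymm
  · rw [Ideal.span_le]
    intro r hr
    simp only [Set.mem_ofPred_eq, Multiset.mem_toList, Multiset.mem_map, Finset.mem_val,
      Finset.mem_erase, Finset.mem_univ, and_true] at hr
    obtain ⟨l, hl, rfl⟩ := hr
    exact mem_others_of_ne θ hl
  · rw [Ideal.span_le]
    rintro _ ⟨l, rfl⟩
    by_cases h : l = i
    · subst h
      rw [Function.update_self]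
      exact zero_mem _
    · rw [Function.update_of_ne h]
      apply Ideal.subset_span
      simp only [Set.mem_ofPred_eq, Multiset.mem_toList, Multiset.mem_map, Finset.mem_val,
        Finset.mem_erase, Finset.mem_univ, and_true]
      exact ⟨l, h, rfl⟩



/-- Cramer: if `N x` vanishes in the `i`-th coordinate and is `θ` elsewhere then `det N · x_j` lies
in the ideal of the other `θ`'s. -/
theorem det_mul_mem_others (θ x : Fin n → R) (i : Fin n) (N : Matrix (Fin n) (Fin n) R)
    (hN : N *ᵥ x = Function.update θ i 0) (j : Fin n) : N.det * x j ∈ others θ i := by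
  have h1 : (N.det • (1 : Matrix (Fin n) (Fin n) R)) *ᵥ x = N.adjugate *ᵥ (N *ᵥ x) := by
    rw [← adjugate_mul, mulVec_mulVec]
  have h2 := congrFun h1 j
  rw [smul_mulVec, one_mulVec, Pi.smul_apply, smul_eq_mul, hN] at h2
  rw [h2, mulVec, dotProduct]
  refine Ideal.sum_mem _ (fun l _ => ?_)
  refine Ideal.mul_mem_left _ _ ?_
  exact Ideal.subset_span ⟨l, rfl⟩

/-- **the determinant is well defined modulo `θ`** -/
theorem det_sub_det_mem (θ x : Fin n → R) (hreg : ∀ i, RegMod (others θ i) (θ i))
    (a a' : Matrix (Fin n) (Fin n) R) (ha : a *ᵥ x = θ) (ha' : a' *ᵥ x = θ) :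
    a.det - a'.det ∈ Ideal.span (Set.range θ) := by
  classical
  let mix : Finset (Fin n) → Matrix (Fin n) (Fin n) R := fun s i =>
    if i ∈ s then a' i else a i
  have hmix1 : ∀ s l, l ∈ s → mix s l = a' l := fun s l hl => if_pos hl
  have hmix2 : ∀ s l, l ∉ s → mix s l = a l := fun s l hl => if_neg hl
  have hmixx : ∀ s, mix s *ᵥ x = θ := by
    intro s
    ext l
    by_cases hl : l ∈ s
    · rw [mulVec, hmix1 s l hl]
      exact congrFun ha' l
    · rw [mulVec, hmix2 s l hl]
      exact congrFun ha l
  have key : ∀ s : Finset (Fin n), a.det - (mix s).det ∈ Ideal.span (Set.range θ) := by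
    intro s
    induction s using Finset.induction_on with
    | empty =>
      have : mix ∅ = a := by
        ext i j
        rw [hmix2 ∅ i (Finset.notMem_empty i)]
      rw [this, sub_self]
      exact zero_mem _
    | insert i s hi ih =>
      have hrow : mix s i = a i := hmix2 s i hi
      have hupd : mix (insert i s) = (mix s).updateRow i (a' i) := by
        ext l j
        by_cases hl : l = i
        · subst hl
          rw [updateRow_self, hmix1 _ l (Finset.mem_insert_self l s)]
        · rw [updateRow_ne hl]
          by_cases hls : l ∈ s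
          · rw [hmix1 _ l (Finset.mem_insert_of_mem hls), hmix1 _ l hls]
          · rw [hmix2 _ l (by simp [hl, hls]), hmix2 _ l hls]
      set N := (mix s).updateRow i (a i - a' i) with hN
      have hdet : (mix s).det = (mix (insert i s)).det + N.det := by
        rw [hupd, hN, ← det_updateRow_add, add_sub_cancel, ← hrow, updateRow_eq_self]
      have hNx : N *ᵥ x = Function.update θ i 0 := by
        ext l
        by_cases hl : l = i
        · subst hl
          rw [Function.update_self, mulVec, hN, updateRow_self, sub_dotProduct]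
          have e1 : a l ⬝ᵥ x = θ l := congrFun ha l
          have e2 : a' l ⬝ᵥ x = θ l := congrFun ha' l
          rw [e1, e2, sub_self]
        · rw [Function.update_of_ne hl, mulVec, hN, updateRow_ne hl]
          exact congrFun (hmixx s) l
      have hmem : N.det ∈ others θ i := by
        apply hreg i
        have e1 : θ i = a i ⬝ᵥ x := (congrFun ha i).symm
        rw [e1, dotProduct, Finset.sum_mul]
        refine Ideal.sum_mem _ (fun j _ => ?_)
        rw [mul_assoc, mul_comm (x j)]
        exact Ideal.mul_mem_left _ _ (det_mul_mem_others θ x i N hNx j)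
      have : a.det - (mix (insert i s)).det = (a.det - (mix s).det) + N.det := by
        rw [hdet]; ring
      rw [this]
      exact Ideal.add_mem _ ih (others_le θ i hmem)
  have huniv : mix Finset.univ = a' := by
    ext i j
    rw [hmix1 _ i (Finset.mem_univ i)]
  have := key Finset.univ
  rwa [huniv] at this

theorem one_updateRow_mulVec (i : Fin n) (v u : Fin n → R) :
    ((1 : Matrix (Fin n) (Fin n) R).updateRow i v) *ᵥ u = Function.update u i (v ⬝ᵥ u) := by
  ext l
  by_cases hl : l = i
  · subst hl
    rw [Function.update_self, mulVec, updateRow_self]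
  · rw [Function.update_of_ne hl, mulVec, updateRow_ne hl]
    exact congrFun (one_mulVec u) l

theorem det_one_updateRow (i : Fin n) (v : Fin n → R) :
    ((1 : Matrix (Fin n) (Fin n) R).updateRow i v).det = v i := by
  rw [← cramer_transpose_apply, transpose_one, cramer_one]
  rfl

/-- replacing one member `θ_i` of `θ` by `y`: the colon statement for the new family implies it for
the old one. -/
theorem step (θ x : Fin n → R) (i : Fin n) (y : R)
    (hθ : RegMod (others θ i) (θ i))
    (hθ'' : ∀ l, RegMod (others (Function.update θ i (θ i * y)) l) (Function.update θ i (θ i * y) l))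
    (c : Matrix (Fin n) (Fin n) R) (hc : c *ᵥ x = Function.update θ i y)
    (hW : ∀ r, r * c.det ∈ Ideal.span (Set.range (Function.update θ i y)) →
      r ∈ Ideal.span (Set.range x))
    (a : Matrix (Fin n) (Fin n) R) (ha : a *ᵥ x = θ) (r : R)
    (hr : r * a.det ∈ Ideal.span (Set.range θ)) : r ∈ Ideal.span (Set.range x) := by
  classical
  set θ'' := Function.update θ i (θ i * y) with hθ''def
  set D := (1 : Matrix (Fin n) (Fin n) R).updateRow i (Pi.single i y) with hD
  set D₂ := (1 : Matrix (Fin n) (Fin n) R).updateRow i (Pi.single i (θ i)) with hD₂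
  have h1 : (D * a) *ᵥ x = θ'' := by
    rw [← mulVec_mulVec, ha, hD, one_updateRow_mulVec, single_dotProduct, mul_comm]
  have h2 : (D₂ * c) *ᵥ x = θ'' := by
    rw [← mulVec_mulVec, hc, hD₂, one_updateRow_mulVec, single_dotProduct, Function.update_self,
      Function.update_idem]
  have h3 := det_sub_det_mem θ'' x hθ'' _ _ h1 h2
  rw [det_mul, det_mul, hD, hD₂, det_one_updateRow, det_one_updateRow, Pi.single_eq_same,
    Pi.single_eq_same] at h3
  have hoth : others θ'' i = others θ i := others_update θ i _
  have hspan'' : Ideal.span (Set.range θ'') = others θ i ⊔ Ideal.span {θ i * y} :=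
    span_range_update θ i _
  -- `r y det a ∈ (θ'')`
  have h4 : r * (y * a.det) ∈ Ideal.span (Set.range θ'') := by
    have e : r * (y * a.det) = y * (r * a.det) := by ring
    rw [e]
    rw [span_range_eq θ i, Submodule.mem_sup] at hr
    obtain ⟨o, ho, t, ht, hot⟩ := hr
    rw [Ideal.mem_span_singleton'] at ht
    obtain ⟨t, rfl⟩ := ht
    rw [← hot, mul_add, hspan'']
    refine Ideal.add_mem _ (Ideal.mem_sup_left (Ideal.mul_mem_left _ _ ho)) (Ideal.mem_sup_right ?_)
    rw [Ideal.mem_span_singleton']
    exact ⟨t, by ring⟩
  -- `r θ_i det c ∈ (θ'')`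
  have h5 : r * (θ i * c.det) ∈ Ideal.span (Set.range θ'') := by
    have e : r * (θ i * c.det) = r * (y * a.det) - r * (y * a.det - θ i * c.det) := by ring
    rw [e]
    exact Ideal.sub_mem _ h4 (Ideal.mul_mem_left _ _ h3)
  -- `r det c ∈ (θ')`
  apply hW
  rw [span_range_update θ i y]
  rw [hspan'', Submodule.mem_sup] at h5
  obtain ⟨o, ho, t, ht, hot⟩ := h5
  rw [Ideal.mem_span_singleton'] at ht
  obtain ⟨t, rfl⟩ := ht
  have h6 : θ i * (r * c.det - t * y) ∈ others θ i := by
    have e : θ i * (r * c.det - t * y) = o := by
      have : o = r * (θ i * c.det) - t * (θ i * y) := by rw [← hot]; ring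
      rw [this]; ring
    rw [e]
    exact ho
  have h7 := hθ _ h6
  have e : r * c.det = (r * c.det - t * y) + t * y := by ring
  rw [e]
  refine Ideal.add_mem _ (Ideal.mem_sup_left h7) (Ideal.mem_sup_right ?_)
  rw [Ideal.mem_span_singleton']
  exact ⟨t, rfl⟩



/-- coset prime avoidance: an element `y ≡ x_i` modulo the other `x`'s which is a nonzerodivisor
modulo `I`, if `(x)` contains some nonzerodivisor modulo `I`. -/
theorem exists_regMod [IsNoetherianRing R] (I : Ideal R) (x : Fin n → R) (i : Fin n) (t : R)
    (ht : RegMod I t) (htx : t ∈ Ideal.span (Set.range x)) :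
    ∃ κ ∈ others x i, RegMod I (x i + κ) := by
  classical
  have hfin : (associatedPrimes R (R ⧸ I)).Finite := associatedPrimes.finite R (R ⧸ I)
  have hnot : ∀ P ∈ associatedPrimes R (R ⧸ I), t ∉ P := by
    intro P hP htP
    obtain ⟨hPp, z, hz⟩ := (isAssociatedPrime_iff (R := R) (M := R ⧸ I)).mp hP
    obtain ⟨z, rfl⟩ := Ideal.Quotient.mk_surjective z
    have hz0 : z ∉ I := by
      intro hzI
      apply hPp.ne_top
      rw [hz, Ideal.Quotient.eq_zero_iff_mem.mpr hzI]
      ext r
      simp [Submodule.mem_colon_singleton]
    rw [hz, Submodule.mem_colon_singleton] at htP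
    have : t * z ∈ I := by
      rw [← Ideal.Quotient.eq_zero_iff_mem, map_mul]
      rw [← htP, Algebra.smul_def]
      rfl
    exact hz0 (ht z this)
  obtain ⟨κ, hκ, hav⟩ := Groth.Agent.H36.DetLength.exists_add_notMem_primes
    hfin.toFinset.card hfin.toFinset rfl
    (fun P hP => ((hfin.mem_toFinset).mp hP).isPrime) (x i) (others x i) (by
      intro P hP hle
      rw [sup_comm, ← span_range_eq] at hle
      exact hnot P ((hfin.mem_toFinset).mp hP) (hle htx))
  refine ⟨κ, hκ, ?_⟩
  intro r hr
  by_contra hrI
  have hne : (Ideal.Quotient.mk I r : R ⧸ I) ≠ 0 := by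
    rwa [Ne, Ideal.Quotient.eq_zero_iff_mem]
  obtain ⟨P, hP, hle⟩ := exists_le_isAssociatedPrime_of_isNoetherianRing R _ hne
  apply hav P ((hfin.mem_toFinset).mpr hP)
  apply hle
  rw [Submodule.mem_colon_singleton, Algebra.smul_def]
  change Ideal.Quotient.mk I (x i + κ) * Ideal.Quotient.mk I r ∈ (⊥ : Submodule R (R ⧸ I))
  rw [Submodule.mem_bot, ← map_mul, Ideal.Quotient.eq_zero_iff_mem]
  exact hr

theorem mem_restList (θ : Fin n → R) (i : Fin n) (r : R) (hr : r ∈ restList θ i) : ∃ l, l ≠ i ∧ θ l = r := by
  unfold restList at hr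
  simp only [Multiset.mem_toList, Multiset.mem_map, Finset.mem_val,
      Finset.mem_erase, Finset.mem_univ, and_true] at hr
  exact hr

variable [IsNoetherianRing R] [IsLocalRing R]

/-- a regular sequence in the maximal ideal, as a family -/
def Reg (θ : Fin n → R) : Prop :=
  IsWeaklyRegular R (List.ofFn θ) ∧ ∀ i, θ i ∈ maximalIdeal R

theorem Reg.regMod {θ : Fin n → R} (h : Reg θ) (i : Fin n) : RegMod (others θ i) (θ i) := by
  have h1 : IsWeaklyRegular R (restList θ i ++ [θ i]) :=
    IsLocalRing.isWeaklyRegular_of_perm_of_subset_maximalIdeal h.1 (perm_ofFn θ i) (by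
      intro r hr
      rw [List.mem_ofFn] at hr
      obtain ⟨l, rfl⟩ := hr
      exact h.2 l)
  rw [isWeaklyRegular_append_iff, isWeaklyRegular_singleton_iff, ofList_restList] at h1
  exact (regMod_iff _ _).mpr h1.2

theorem Reg.update {θ : Fin n → R} (h : Reg θ) (i : Fin n) (y : R) (hy : y ∈ maximalIdeal R)
    (hreg : RegMod (others θ i) y) : Reg (Function.update θ i y) := by
  have h1 : IsWeaklyRegular R (restList θ i ++ [θ i]) :=
    IsLocalRing.isWeaklyRegular_of_perm_of_subset_maximalIdeal h.1 (perm_ofFn θ i) (by
      intro r hr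
      rw [List.mem_ofFn] at hr
      obtain ⟨l, rfl⟩ := hr
      exact h.2 l)
  rw [isWeaklyRegular_append_iff] at h1
  have h2 : IsWeaklyRegular R (restList θ i ++ [y]) := by
    rw [isWeaklyRegular_append_iff, isWeaklyRegular_singleton_iff, ofList_restList]
    exact ⟨h1.1, (regMod_iff _ _).mp hreg⟩
  refine ⟨IsLocalRing.isWeaklyRegular_of_perm_of_subset_maximalIdeal h2
    (perm_ofFn_update θ i y).symm ?_, ?_⟩
  · intro r hr
    rw [List.mem_append, List.mem_singleton] at hr
    rcases hr with hr | rfl
    · obtain ⟨l, -, rfl⟩ := mem_restList θ i r hr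
      exact h.2 l
    · exact hy
  · intro l
    by_cases hl : l = i
    · subst hl
      rw [Function.update_self]
      exact hy
    · rw [Function.update_of_ne hl]
      exact h.2 l

theorem wiebe_eq (θ : Fin n → R) (hθ : Reg θ) (a : Matrix (Fin n) (Fin n) R) (ha : a *ᵥ θ = θ)
    (r : R) (hr : r * a.det ∈ Ideal.span (Set.range θ)) : r ∈ Ideal.span (Set.range θ) := by
  have h1 := det_sub_det_mem θ θ (fun i => hθ.regMod i) a 1 ha (one_mulVec θ)
  rw [det_one] at h1
  have e : r = r * a.det - r * (a.det - 1) := by ring
  rw [e]
  exact Ideal.sub_mem _ hr (Ideal.mul_mem_left _ _ h1)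

open scoped Classical in
theorem wiebe_aux : ∀ (k : ℕ) (θ x : Fin n → R),
    (Finset.univ.filter (fun i => θ i ≠ x i)).card ≤ k → Reg θ → (∀ i, x i ∈ maximalIdeal R) →
    ∀ a : Matrix (Fin n) (Fin n) R, a *ᵥ x = θ → ∀ r, r * a.det ∈ Ideal.span (Set.range θ) →
    r ∈ Ideal.span (Set.range x) := by
  intro k
  induction k with
  | zero =>
    intro θ x hcard hθ hx a ha r hr
    have hθx : θ = x := by
      ext i
      by_contra hne
      have : i ∈ Finset.univ.filter (fun i => θ i ≠ x i) := by simp [hne]
      rw [Nat.le_zero, Finset.card_eq_zero] at hcard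
      rw [hcard] at this
      exact absurd this (Finset.notMem_empty i)
    subst hθx
    exact wiebe_eq θ hθ a ha r hr
  | succ k ih =>
    intro θ x hcard hθ hx a ha r hr
    by_cases hemp : Finset.univ.filter (fun i => θ i ≠ x i) = ∅
    · have hθx : θ = x := by
        ext i
        by_contra hne
        have : i ∈ Finset.univ.filter (fun i => θ i ≠ x i) := by simp [hne]
        rw [hemp] at this
        exact absurd this (Finset.notMem_empty i)
      subst hθx
      exact wiebe_eq θ hθ a ha r hr
    obtain ⟨i, hi⟩ := Finset.nonempty_iff_ne_empty.mpr hemp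
    have hθx : ∀ l, θ l ∈ Ideal.span (Set.range x) := by
      intro l
      rw [← ha, mulVec, dotProduct]
      exact Ideal.sum_mem _ (fun j _ => Ideal.mul_mem_left _ _ (Ideal.subset_span ⟨j, rfl⟩))
    have hxm : Ideal.span (Set.range x) ≤ maximalIdeal R := by
      rw [Ideal.span_le]
      rintro _ ⟨l, rfl⟩
      exact hx l
    obtain ⟨κ, hκ, hyreg⟩ := exists_regMod (others θ i) x i (θ i) (hθ.regMod i) (hθx i)
    set y := x i + κ with hy
    have hyx : y ∈ Ideal.span (Set.range x) :=
      Ideal.add_mem _ (Ideal.subset_span ⟨i, rfl⟩) (others_le x i hκ)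
    have hym : y ∈ maximalIdeal R := hxm hyx
    set θ' := Function.update θ i y with hθ'def
    set x' := Function.update x i y with hx'def
    have hθ' : Reg θ' := hθ.update i y hym hyreg
    have hx' : ∀ l, x' l ∈ maximalIdeal R := by
      intro l
      by_cases hl : l = i
      · subst hl
        rw [hx'def, Function.update_self]
        exact hym
      · rw [hx'def, Function.update_of_ne hl]
        exact hx l
    have hspan : Ideal.span (Set.range x') = Ideal.span (Set.range x) := by
      rw [hx'def, span_range_update x i y, span_range_eq x i]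
      apply le_antisymm
      · refine sup_le le_sup_left ?_
        rw [Ideal.span_le]
        rintro _ rfl
        exact Ideal.add_mem _ (Ideal.mem_sup_right (Ideal.subset_span rfl)) (Ideal.mem_sup_left hκ)
      · refine sup_le le_sup_left ?_
        rw [Ideal.span_le]
        rintro _ rfl
        have e : x i = y - κ := by rw [hy]; ring
        rw [e]
        exact Ideal.sub_mem _ (Ideal.mem_sup_right (Ideal.subset_span rfl)) (Ideal.mem_sup_left hκ)
    have hcard' : (Finset.univ.filter (fun l => θ' l ≠ x' l)).card ≤ k := by
      have hsub : Finset.univ.filter (fun l => θ' l ≠ x' l) ⊆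
          (Finset.univ.filter (fun l => θ l ≠ x l)).erase i := by
        intro l hl
        rw [Finset.mem_filter] at hl
        have hli : l ≠ i := by
          rintro rfl
          apply hl.2
          rw [hθ'def, hx'def, Function.update_self, Function.update_self]
        rw [Finset.mem_erase, Finset.mem_filter]
        refine ⟨hli, Finset.mem_univ _, ?_⟩
        have := hl.2
        rwa [hθ'def, hx'def, Function.update_of_ne hli, Function.update_of_ne hli] at this
      have h1 := Finset.card_le_card hsub
      rw [Finset.card_erase_of_mem hi] at h1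
      omega
    -- a matrix `c` with `c x = θ'`
    have hθ'x : ∀ l, θ' l ∈ Ideal.span (Set.range x) := by
      intro l
      by_cases hl : l = i
      · subst hl
        rw [hθ'def, Function.update_self]
        exact hyx
      · rw [hθ'def, Function.update_of_ne hl]
        exact hθx l
    have hc0 : ∀ l, ∃ cl : Fin n → R, ∑ j, cl j * x j = θ' l := fun l =>
      Ideal.mem_span_range_iff_exists_fun.mp (hθ'x l)
    choose c₀ hc using hc0
    set c : Matrix (Fin n) (Fin n) R := c₀ with hcdef
    have hcx : c *ᵥ x = θ' := by
      ext l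
      exact hc l
    -- the matrix `F` with `F x' = x`
    unfold others at hκ
    obtain ⟨w₀, hw₀⟩ := Ideal.mem_span_range_iff_exists_fun.mp hκ
    set w : Fin n → R := Function.update (fun j => - w₀ j) i 1 with hw
    have hwx : w ⬝ᵥ x' = x i := by
      have e1 : w ⬝ᵥ x' + κ = y := by
        rw [← hw₀, dotProduct, ← Finset.sum_add_distrib]
        have : ∀ j ∈ Finset.univ, w j * x' j + w₀ j * Function.update x i 0 j =
            if j = i then y else 0 := by
          intro j _
          by_cases hj : j = i
          · subst hj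
            rw [hw, hx'def, Function.update_self, Function.update_self, Function.update_self,
              if_pos rfl]
            ring
          · rw [hw, hx'def, Function.update_of_ne hj, Function.update_of_ne hj,
              Function.update_of_ne hj, if_neg hj]
            ring
        rw [Finset.sum_congr rfl this, Finset.sum_ite_eq' Finset.univ i, if_pos (Finset.mem_univ i)]
      have : w ⬝ᵥ x' = y - κ := by rw [← e1]; ring
      rw [this, hy]
      ring
    set F := (1 : Matrix (Fin n) (Fin n) R).updateRow i w with hF
    have hFx : F *ᵥ x' = x := by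
      rw [hF, one_updateRow_mulVec, hwx, hx'def, Function.update_idem, Function.update_eq_self]
    have hFdet : F.det = 1 := by
      rw [hF, det_one_updateRow, hw, Function.update_self]
    have hθ'' : Reg (Function.update θ i (θ i * y)) :=
      hθ.update i (θ i * y) (Ideal.mul_mem_right _ _ (hθ.2 i)) ((hθ.regMod i).mul hyreg)
    refine step θ x i y (hθ.regMod i) (fun l => hθ''.regMod l) c hcx ?_ a ha r hr
    intro r' hr'
    rw [← hspan]
    refine ih θ' x' hcard' hθ' hx' (c * F) ?_ r' ?_
    · rw [← mulVec_mulVec, hFx, hcx]
    · rw [det_mul, hFdet, mul_one]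
      exact hr'

/-- **Wiebe's lemma**: if `θ = a x` with `θ` a regular sequence in the maximal ideal, then
`(θ) : det a ⊆ (x)`. -/
theorem wiebe (θ x : Fin n → R) (hθ : IsWeaklyRegular R (List.ofFn θ))
    (hx : ∀ i, x i ∈ maximalIdeal R) (a : Matrix (Fin n) (Fin n) R) (ha : a *ᵥ x = θ) (r : R)
    (hr : r * a.det ∈ Ideal.span (Set.range θ)) : r ∈ Ideal.span (Set.range x) := by
  have hθm : ∀ l, θ l ∈ maximalIdeal R := by
    intro l
    rw [← ha, mulVec, dotProduct]
    exact Ideal.sum_mem _ (fun j _ => Ideal.mul_mem_left _ _ (hx j))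
  exact wiebe_aux _ θ x le_rfl ⟨hθ, hθm⟩ hx a ha r hr


end Groth.Agent.H81.Wat
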