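import Mathlib
import Groth.Prelude.Def_GrSyz
import Groth.Agent.H77.Irrel
import Groth.Agent.H77.MinGen
import Groth.Agent.H66.StdGrIrrel

set_option autoImplicit false
set_option linter.unusedSectionVars false
set_option linter.unusedVariables false
universe u

/-!
# Linear actions of a finite group on a polynomial ring  (helper81)

`G` acts on `S = k[X_1, …, X_n]` by ring automorphisms fixing `k` and sending each `X_i` to a linear
form.  The action preserves the standard grading and commutes with the homogeneous components; the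
Reynolds operator (when `|G|` is invertible); the subalgebra of invariants.
-/

namespace Groth.Agent.H81.Wat

open MvPolynomial GrSyz Groth.Agent.H77

section Graded

variable {k : Type u} [Field k] {n : ℕ}

/-- a ring endomorphism of the polynomial ring fixing constants and sending variables to linear forms
preserves the standard grading: here in the form "the image of the degree `d` component of any
polynomial is homogeneous of degree `d`". -/
theorem map_comp_mem (φ : MvPolynomial (Fin n) k →+* MvPolynomial (Fin n) k)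
    (hC : ∀ c : k, φ (C c) = C c) (hX : ∀ i, φ (X i) ∈ stdGr k (Fin n) 1)
    (f : MvPolynomial (Fin n) k) : ∀ d : ℤ, φ (comp d f) ∈ stdGr k (Fin n) d := by
  induction f using MvPolynomial.induction_on with
  | C a =>
    intro d
    have hmem : (C a : MvPolynomial (Fin n) k) ∈ stdGr k (Fin n) 0 := by
      rw [mem_stdGr_iff]
      exact isWeightedHomogeneous_C _ a
    by_cases hd : d = 0
    · subst hd
      rw [comp_of_mem_same hmem, hC]
      exact hmem
    · rw [comp_of_mem_ne hmem (Ne.symm hd), map_zero]
      exact Submodule.zero_mem _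
  | add p q hp hq =>
    intro d
    rw [comp_add, map_add]
    exact Submodule.add_mem _ (hp d) (hq d)
  | mul_X p i hp =>
    intro d
    have hXi : (X i : MvPolynomial (Fin n) k) ∈ stdGr k (Fin n) 1 :=
      Groth.Agent.H66.StdGrIrrel.X_mem_stdGr_one k (Fin n) i
    have e : d = 1 + (d - 1) := by ring
    rw [mul_comm, e, comp_mul_of_left_mem hXi, map_mul, ← e]
    have := SetLike.GradedMul.mul_mem (hX i) (hp (d - 1))
    rwa [← e] at this

theorem map_mem_stdGr (φ : MvPolynomial (Fin n) k →+* MvPolynomial (Fin n) k)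
    (hC : ∀ c : k, φ (C c) = C c) (hX : ∀ i, φ (X i) ∈ stdGr k (Fin n) 1)
    {d : ℤ} {f : MvPolynomial (Fin n) k} (hf : f ∈ stdGr k (Fin n) d) :
    φ f ∈ stdGr k (Fin n) d := by
  have := map_comp_mem φ hC hX f d
  rwa [comp_of_mem_same hf] at this

theorem comp_sum {ι : Type*} (T : Finset ι) (F : ι → MvPolynomial (Fin n) k) (d : ℤ) :
    comp d (∑ a ∈ T, F a) = ∑ a ∈ T, comp d (F a) := by
  classical
  induction T using Finset.induction_on with
  | empty => simp [comp_zero]
  | insert a T ha ih => rw [Finset.sum_insert ha, Finset.sum_insert ha, comp_add, ih]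

theorem comp_map (φ : MvPolynomial (Fin n) k →+* MvPolynomial (Fin n) k)
    (hC : ∀ c : k, φ (C c) = C c) (hX : ∀ i, φ (X i) ∈ stdGr k (Fin n) 1)
    (f : MvPolynomial (Fin n) k) (d : ℤ) : comp d (φ f) = φ (comp d f) := by
  classical
  have hf := DirectSum.sum_support_decompose (stdGr k (Fin n)) f
  have h1 : φ f = ∑ a ∈ (DirectSum.decompose (stdGr k (Fin n)) f).support, φ (comp a f) := by
    conv_lhs => rw [← hf]
    rw [map_sum]
    rfl
  rw [h1, comp_sum]
  have h2 : ∀ a ∈ (DirectSum.decompose (stdGr k (Fin n)) f).support,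
      comp d (φ (comp a f)) = if a = d then φ (comp d f) else 0 := by
    intro a _
    by_cases had : a = d
    · subst had
      rw [if_pos rfl, comp_of_mem_same (map_comp_mem φ hC hX f a)]
    · rw [if_neg had, comp_of_mem_ne (map_comp_mem φ hC hX f a) had]
  rw [Finset.sum_congr rfl h2, Finset.sum_ite_eq']
  split_ifs with hd
  · rfl
  · rw [DFinsupp.notMem_support_iff] at hd
    have : comp d f = 0 := by
      unfold comp
      rw [hd]
      rfl
    rw [this, map_zero]

end Graded

section Act

variable {k : Type u} [Field k] {n : ℕ} {G : Type u} [Group G]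
  [MulSemiringAction G (MvPolynomial (Fin n) k)]
  (M : G → Matrix (Fin n) (Fin n) k)
  (hC : ∀ (g : G) (c : k), g • (C c : MvPolynomial (Fin n) k) = C c)
  (hX : ∀ (g : G) (i : Fin n), g • (X i : MvPolynomial (Fin n) k) =
    ∑ j, M g j i • (X j : MvPolynomial (Fin n) k))

include hX in
theorem smul_X_mem (g : G) (i : Fin n) :
    g • (X i : MvPolynomial (Fin n) k) ∈ stdGr k (Fin n) 1 := by
  rw [hX]
  exact Submodule.sum_mem _ (fun j _ => Submodule.smul_mem _ _
    (Groth.Agent.H66.StdGrIrrel.X_mem_stdGr_one k (Fin n) j))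

include hC hX in
/-- the action preserves the standard grading -/
theorem smul_mem_stdGr (g : G) {d : ℤ} {f : MvPolynomial (Fin n) k}
    (hf : f ∈ stdGr k (Fin n) d) : g • f ∈ stdGr k (Fin n) d :=
  map_mem_stdGr (MulSemiringAction.toRingHom G (MvPolynomial (Fin n) k) g) (hC g)
    (smul_X_mem M hX g) hf

include hC hX in
/-- the action commutes with taking homogeneous components -/
theorem comp_smul (g : G) (f : MvPolynomial (Fin n) k) (d : ℤ) :
    comp d (g • f) = g • comp d f :=
  comp_map (MulSemiringAction.toRingHom G (MvPolynomial (Fin n) k) g) (hC g)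
    (smul_X_mem M hX g) f d

include hC hX in
theorem constantCoeff_smul (g : G) (f : MvPolynomial (Fin n) k) :
    constantCoeff (g • f) = constantCoeff f := by
  have h : (constantCoeff : MvPolynomial (Fin n) k →+* k).comp
      (MulSemiringAction.toRingHom G (MvPolynomial (Fin n) k) g) = constantCoeff := by
    apply MvPolynomial.ringHom_ext
    · intro c
      simp only [RingHom.comp_apply, MulSemiringAction.toRingHom_apply, hC]
    · intro i
      simp only [RingHom.comp_apply, MulSemiringAction.toRingHom_apply, hX, map_sum,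
        constantCoeff_X]
      refine Finset.sum_eq_zero (fun j _ => ?_)
      rw [MvPolynomial.smul_eq_C_mul, map_mul, constantCoeff_X, mul_zero]
  exact RingHom.congr_fun h f

include hC in
theorem smul_smul_comm (g : G) (c : k) (f : MvPolynomial (Fin n) k) :
    g • (c • f) = c • (g • f) := by
  rw [MvPolynomial.smul_eq_C_mul, smul_mul', hC, ← MvPolynomial.smul_eq_C_mul]

/-- the subalgebra of invariants -/
def Inv (hC : ∀ (g : G) (c : k), g • (C c : MvPolynomial (Fin n) k) = C c) :
    Subalgebra k (MvPolynomial (Fin n) k) where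
  carrier := {f | ∀ g : G, g • f = f}
  mul_mem' := by
    intro a b ha hb g
    rw [smul_mul', ha g, hb g]
  add_mem' := by
    intro a b ha hb g
    rw [smul_add, ha g, hb g]
  algebraMap_mem' := by
    intro c g
    exact hC g c

theorem mem_Inv {f : MvPolynomial (Fin n) k} : f ∈ Inv hC ↔ ∀ g : G, g • f = f := Iff.rfl

include hX in
/-- homogeneous components of invariants are invariants -/
theorem comp_mem_Inv {f : MvPolynomial (Fin n) k} (hf : f ∈ Inv hC) (d : ℤ) :
    comp d f ∈ Inv hC := by
  intro g
  rw [← comp_smul M hC hX, hf g]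

end Act

section Rey

variable {k : Type u} [Field k] {n : ℕ} {G : Type u} [Group G] [Fintype G]
  [MulSemiringAction G (MvPolynomial (Fin n) k)]
  (M : G → Matrix (Fin n) (Fin n) k)
  (hC : ∀ (g : G) (c : k), g • (C c : MvPolynomial (Fin n) k) = C c)
  (hX : ∀ (g : G) (i : Fin n), g • (X i : MvPolynomial (Fin n) k) =
    ∑ j, M g j i • (X j : MvPolynomial (Fin n) k))
  (hcard : ((Fintype.card G : ℕ) : k) ≠ 0)

/-- the action of a group element as a `k`-linear map -/
noncomputable def actLin (g : G) : MvPolynomial (Fin n) k →ₗ[k] MvPolynomial (Fin n) k where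
  toFun f := g • f
  map_add' := smul_add g
  map_smul' c f := smul_smul_comm hC g c f

/-- the Reynolds operator `f ↦ |G|⁻¹ ∑ g • f` -/
noncomputable def rey : MvPolynomial (Fin n) k →ₗ[k] MvPolynomial (Fin n) k :=
  ((Fintype.card G : ℕ) : k)⁻¹ • ∑ g : G, actLin hC g

theorem rey_apply (f : MvPolynomial (Fin n) k) :
    rey hC f = ((Fintype.card G : ℕ) : k)⁻¹ • ∑ g : G, g • f := by
  unfold rey
  rw [LinearMap.smul_apply, LinearMap.sum_apply]
  rfl

theorem smul_rey (h : G) (f : MvPolynomial (Fin n) k) : h • rey hC f = rey hC f := by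
  rw [rey_apply, smul_smul_comm hC, Finset.smul_sum]
  congr 1
  exact Fintype.sum_equiv (Equiv.mulLeft h) _ _ (fun x => by simp [mul_smul])

theorem rey_mem_Inv (f : MvPolynomial (Fin n) k) : rey hC f ∈ Inv hC :=
  fun h => smul_rey hC h f

include hcard in
theorem rey_of_mem {f : MvPolynomial (Fin n) k} (hf : f ∈ Inv hC) : rey hC f = f := by
  rw [rey_apply]
  have : ∑ g : G, g • f = ((Fintype.card G : ℕ) : k) • f := by
    rw [Finset.sum_congr rfl (fun g _ => hf g), Finset.sum_const, Finset.card_univ,
      Nat.cast_smul_eq_nsmul]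
  rw [this, smul_smul, inv_mul_cancel₀ hcard, one_smul]

theorem rey_mul_of_mem {a : MvPolynomial (Fin n) k} (ha : a ∈ Inv hC)
    (f : MvPolynomial (Fin n) k) : rey hC (a * f) = a * rey hC f := by
  rw [rey_apply, rey_apply, mul_smul_comm, Finset.mul_sum]
  congr 1
  refine Finset.sum_congr rfl (fun g _ => ?_)
  rw [smul_mul', ha g]

include hX in
theorem rey_mem_stdGr {d : ℤ} {f : MvPolynomial (Fin n) k} (hf : f ∈ stdGr k (Fin n) d) :
    rey hC f ∈ stdGr k (Fin n) d := by
  rw [rey_apply]
  exact Submodule.smul_mem _ _ (Submodule.sum_mem _ (fun g _ => smul_mem_stdGr M hC hX g hf))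

include hX hcard in
theorem constantCoeff_rey (f : MvPolynomial (Fin n) k) :
    constantCoeff (rey hC f) = constantCoeff f := by
  rw [rey_apply, MvPolynomial.smul_eq_C_mul, map_mul, constantCoeff_C, map_sum,
    Finset.sum_congr rfl (fun g _ => constantCoeff_smul M hC hX g f), Finset.sum_const,
    Finset.card_univ, nsmul_eq_mul, ← mul_assoc, inv_mul_cancel₀ hcard, one_mul]

end Rey

section Lift

open Matrix

variable {k : Type u} [Field k] {n : ℕ} {G : Type u} [Group G] [Fintype G]
  [MulSemiringAction G (MvPolynomial (Fin n) k)]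
  (M : G → Matrix (Fin n) (Fin n) k)
  (hC : ∀ (g : G) (c : k), g • (C c : MvPolynomial (Fin n) k) = C c)
  (hX : ∀ (g : G) (i : Fin n), g • (X i : MvPolynomial (Fin n) k) =
    ∑ j, M g j i • (X j : MvPolynomial (Fin n) k))
  (hcard : ((Fintype.card G : ℕ) : k) ≠ 0)
  (hmul : ∀ g h : G, M (g * h) = M g * M h) (hdet : ∀ g : G, (M g).det = 1)

theorem mem_span_range_X {p : MvPolynomial (Fin n) k} (hp : constantCoeff p = 0) :
    p ∈ Ideal.span (Set.range (X : Fin n → MvPolynomial (Fin n) k)) := by
  rw [← Set.image_univ, mem_ideal_span_X_image]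
  intro m hm
  have hm0 : m ≠ 0 := by
    rintro rfl
    rw [mem_support_iff] at hm
    exact hm hp
  obtain ⟨i, hi⟩ := Finsupp.ne_iff.1 hm0
  exact ⟨i, Set.mem_univ _, by simpa using hi⟩

include hX in
/-- the matrix of the action on the variables: `g • X = (M g)ᵀ X` -/
theorem smul_X_eq (g : G) :
    (fun i => g • (X i : MvPolynomial (Fin n) k)) =
      ((M g).map (C : k →+* MvPolynomial (Fin n) k))ᵀ *ᵥ (X : Fin n → MvPolynomial (Fin n) k) := by
  funext i
  rw [hX, mulVec, dotProduct]
  refine Finset.sum_congr rfl (fun j _ => ?_)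
  rw [transpose_apply, map_apply, MvPolynomial.smul_eq_C_mul]

include hC hX in
/-- twisting a lift of an invariant family by a group element gives another lift -/
theorem twist_mulVec (g : G) (θ : Fin n → MvPolynomial (Fin n) k) (hθ : ∀ i, g • θ i = θ i)
    (a : Matrix (Fin n) (Fin n) (MvPolynomial (Fin n) k))
    (ha : a *ᵥ (X : Fin n → MvPolynomial (Fin n) k) = θ) :
    ((a.map (MulSemiringAction.toRingHom G (MvPolynomial (Fin n) k) g)) *
      ((M g).map (C : k →+* MvPolynomial (Fin n) k))ᵀ) *ᵥ
        (X : Fin n → MvPolynomial (Fin n) k) = θ := by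
  rw [← mulVec_mulVec, ← smul_X_eq M hX g]
  funext i
  have := RingHom.map_mulVec (MulSemiringAction.toRingHom G (MvPolynomial (Fin n) k) g) a
    (X : Fin n → MvPolynomial (Fin n) k) i
  rw [ha] at this
  rw [← hθ i]
  exact this.symm

/-- the lift twisted by `g` -/
noncomputable def tw (g : G) (a : Matrix (Fin n) (Fin n) (MvPolynomial (Fin n) k)) :
    Matrix (Fin n) (Fin n) (MvPolynomial (Fin n) k) :=
  (a.map (MulSemiringAction.toRingHom G (MvPolynomial (Fin n) k) g)) *
    ((M g).map (C : k →+* MvPolynomial (Fin n) k))ᵀ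

/-- the averaged lift -/
noncomputable def avg (a : Matrix (Fin n) (Fin n) (MvPolynomial (Fin n) k)) :
    Matrix (Fin n) (Fin n) (MvPolynomial (Fin n) k) :=
  (C (((Fintype.card G : ℕ) : k)⁻¹) : MvPolynomial (Fin n) k) • ∑ g : G, tw M g a

include hC hX hcard in
theorem avg_mulVec (θ : Fin n → MvPolynomial (Fin n) k) (hθ : ∀ i, θ i ∈ Inv hC)
    (a : Matrix (Fin n) (Fin n) (MvPolynomial (Fin n) k))
    (ha : a *ᵥ (X : Fin n → MvPolynomial (Fin n) k) = θ) :
    avg M a *ᵥ (X : Fin n → MvPolynomial (Fin n) k) = θ := by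
  unfold avg
  rw [smul_mulVec, sum_mulVec]
  have : ∀ g ∈ (Finset.univ : Finset G), tw M g a *ᵥ (X : Fin n → MvPolynomial (Fin n) k) = θ :=
    fun g _ => twist_mulVec M hC hX g θ (fun i => hθ i g) a ha
  rw [Finset.sum_congr rfl this, Finset.sum_const, Finset.card_univ]
  funext i
  rw [Pi.smul_apply, Pi.smul_apply, smul_eq_mul, nsmul_eq_mul, ← mul_assoc]
  have : (C (((Fintype.card G : ℕ) : k)⁻¹) : MvPolynomial (Fin n) k) * ((Fintype.card G : ℕ) :
      MvPolynomial (Fin n) k) = 1 := by
    rw [← map_natCast (C : k →+* MvPolynomial (Fin n) k), ← map_mul, inv_mul_cancel₀ hcard, map_one]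
  rw [this, one_mul]

include hC hmul in
theorem map_tw (h g : G) (a : Matrix (Fin n) (Fin n) (MvPolynomial (Fin n) k)) :
    (tw M g a).map (MulSemiringAction.toRingHom G (MvPolynomial (Fin n) k) h) =
      tw M (h * g) a * ((M h⁻¹).map (C : k →+* MvPolynomial (Fin n) k))ᵀ := by
  unfold tw
  rw [Matrix.map_mul, Matrix.map_map]
  have e1 : (⇑(MulSemiringAction.toRingHom G (MvPolynomial (Fin n) k) h) ∘
      ⇑(MulSemiringAction.toRingHom G (MvPolynomial (Fin n) k) g)) =
      ⇑(MulSemiringAction.toRingHom G (MvPolynomial (Fin n) k) (h * g)) := by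
    funext f
    simp [mul_smul]
  have e2 : (((M g).map (C : k →+* MvPolynomial (Fin n) k))ᵀ).map
      (MulSemiringAction.toRingHom G (MvPolynomial (Fin n) k) h) =
      ((M g).map (C : k →+* MvPolynomial (Fin n) k))ᵀ := by
    ext i j
    simp [hC]
  have e3 : M g = M h⁻¹ * M (h * g) := by
    rw [← hmul, inv_mul_cancel_left]
  rw [e1, e2]
  conv_lhs => rw [e3]
  rw [Matrix.map_mul, transpose_mul, mul_assoc]

include hC hmul in
theorem map_avg (h : G) (a : Matrix (Fin n) (Fin n) (MvPolynomial (Fin n) k)) :
    (avg M a).map (MulSemiringAction.toRingHom G (MvPolynomial (Fin n) k) h) =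
      avg M a * ((M h⁻¹).map (C : k →+* MvPolynomial (Fin n) k))ᵀ := by
  have e1 : (avg M a).map (MulSemiringAction.toRingHom G (MvPolynomial (Fin n) k) h) =
      (C (((Fintype.card G : ℕ) : k)⁻¹) : MvPolynomial (Fin n) k) •
        ∑ g : G, (tw M g a).map (MulSemiringAction.toRingHom G (MvPolynomial (Fin n) k) h) := by
    unfold avg
    ext1 i j
    rw [map_apply, Matrix.smul_apply, Matrix.smul_apply, Matrix.sum_apply, Matrix.sum_apply,
      smul_eq_mul, smul_eq_mul, map_mul, map_sum, MulSemiringAction.toRingHom_apply, hC]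
    rfl
  rw [e1, Finset.sum_congr rfl (fun g _ => map_tw M hC hmul h g a), ← Finset.sum_mul,
    ← smul_mul_assoc]
  congr 1
  unfold avg
  congr 1
  exact Fintype.sum_equiv (Equiv.mulLeft h) _ _ (fun g => rfl)

include hC hmul hdet in
theorem smul_det_avg (h : G) (a : Matrix (Fin n) (Fin n) (MvPolynomial (Fin n) k)) :
    h • (avg M a).det = (avg M a).det := by
  have h1 := RingHom.map_det (MulSemiringAction.toRingHom G (MvPolynomial (Fin n) k) h) (avg M a)
  rw [RingHom.mapMatrix_apply, map_avg M hC hmul, det_mul, det_transpose] at h1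
  have h2 : ((M h⁻¹).map (C : k →+* MvPolynomial (Fin n) k)).det = 1 := by
    have := RingHom.map_det (C : k →+* MvPolynomial (Fin n) k) (M h⁻¹)
    rw [RingHom.mapMatrix_apply, hdet, map_one] at this
    exact this.symm
  rw [h2, mul_one] at h1
  exact h1

include hC hX hcard hmul hdet in
/-- **an invariant determinant**: an invariant family `θ` in the irrelevant ideal can be written
`θ = a X` with `det a` invariant. -/
theorem exists_det_mem_Inv (θ : Fin n → MvPolynomial (Fin n) k) (hθ : ∀ i, θ i ∈ Inv hC)
    (hθ0 : ∀ i, constantCoeff (θ i) = 0) :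
    ∃ a : Matrix (Fin n) (Fin n) (MvPolynomial (Fin n) k),
      a *ᵥ (X : Fin n → MvPolynomial (Fin n) k) = θ ∧ a.det ∈ Inv hC := by
  have h0 : ∀ i, ∃ c : Fin n → MvPolynomial (Fin n) k,
      ∑ j, c j * (X j : MvPolynomial (Fin n) k) = θ i := fun i =>
    Ideal.mem_span_range_iff_exists_fun.mp (mem_span_range_X (hθ0 i))
  choose a₀ ha₀ using h0
  have ha : (a₀ : Matrix (Fin n) (Fin n) (MvPolynomial (Fin n) k)) *ᵥ
      (X : Fin n → MvPolynomial (Fin n) k) = θ := by
    funext i
    exact ha₀ i
  exact ⟨avg M a₀, avg_mulVec M hC hX hcard θ hθ a₀ ha,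
    fun h => smul_det_avg M hC hmul hdet h a₀⟩

end Lift

section Integral

variable {k : Type u} [Field k] {n : ℕ} {G : Type u} [Group G] [Fintype G]
  [MulSemiringAction G (MvPolynomial (Fin n) k)]
  (M : G → Matrix (Fin n) (Fin n) k)
  (hC : ∀ (g : G) (c : k), g • (C c : MvPolynomial (Fin n) k) = C c)
  (hX : ∀ (g : G) (i : Fin n), g • (X i : MvPolynomial (Fin n) k) =
    ∑ j, M g j i • (X j : MvPolynomial (Fin n) k))

include hX in
/-- an ideal whose radical contains the invariants without constant term has radical containing the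
variables. -/
theorem X_mem_radical (J : Ideal (MvPolynomial (Fin n) k))
    (hJ : ∀ f ∈ Inv hC, constantCoeff f = 0 → f ∈ J.radical) (i : Fin n) :
    (X i : MvPolynomial (Fin n) k) ∈ J.radical := by
  classical
  set P := MulSemiringAction.charpoly G (X i : MvPolynomial (Fin n) k) with hP
  have hmonic : P.Monic := MulSemiringAction.monic_charpoly G _
  have hdeg : P.natDegree = Fintype.card G := by
    rw [hP, MulSemiringAction.charpoly_eq]
    exact Polynomial.natDegree_finsetProd_X_sub_C_eq_card _ _
  have hmap : P.map (constantCoeff : MvPolynomial (Fin n) k →+* k) =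
      (Polynomial.X : Polynomial k) ^ Fintype.card G := by
    rw [hP, MulSemiringAction.charpoly_eq, Polynomial.map_prod]
    have : ∀ g ∈ (Finset.univ : Finset G),
        (Polynomial.X - Polynomial.C (g • (X i : MvPolynomial (Fin n) k))).map
          (constantCoeff : MvPolynomial (Fin n) k →+* k) = Polynomial.X := by
      intro g _
      rw [Polynomial.map_sub, Polynomial.map_X, Polynomial.map_C, constantCoeff_smul M hC hX,
        constantCoeff_X, map_zero, sub_zero]
    rw [Finset.prod_congr rfl this, Finset.prod_const, Finset.card_univ]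
  have hcoeff : ∀ j, j < Fintype.card G → P.coeff j ∈ J.radical := by
    intro j hj
    apply hJ
    · intro g
      exact MulSemiringAction.smul_coeff_charpoly _ j g
    · have := congrArg (fun q => Polynomial.coeff q j) hmap
      simp only [Polynomial.coeff_map, Polynomial.coeff_X_pow] at this
      rw [this, if_neg (ne_of_lt hj)]
  have heval := MulSemiringAction.eval_charpoly G (X i : MvPolynomial (Fin n) k)
  rw [← hP, Polynomial.eval_eq_sum_range, hdeg, Finset.sum_range_succ, ← hdeg,
    hmonic.coeff_natDegree, one_mul, hdeg] at heval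
  have hpow : (X i : MvPolynomial (Fin n) k) ^ Fintype.card G ∈ J.radical := by
    have e : (X i : MvPolynomial (Fin n) k) ^ Fintype.card G =
        - ∑ j ∈ Finset.range (Fintype.card G), P.coeff j * (X i : MvPolynomial (Fin n) k) ^ j := by
      rw [eq_neg_iff_add_eq_zero, add_comm]
      exact heval
    rw [e]
    refine Ideal.neg_mem_iff _ |>.mpr (Ideal.sum_mem _ (fun j hj => ?_))
    exact Ideal.mul_mem_right _ _ (hcoeff j (Finset.mem_range.mp hj))
  exact Ideal.mem_radical_of_pow_mem hpow

end Integral

end Groth.Agent.H81.Wat
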