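import Mathlib
import Groth.Agent.H55.Gor1
import Groth.Agent.H81.ACILink

set_option autoImplicit false
set_option linter.unusedSectionVars false
set_option linter.unusedVariables false
set_option linter.style.haveILetI false
universe u

/-!
# Gorenstein lifts along quotients by regular sequences  (helper81)

If `xs` is a weakly regular sequence of a Noetherian ring `A` and `A/(xs)` is Gorenstein then `A_q`
is Gorenstein for every prime `q ⊇ (xs)`.
-/

namespace Groth.Agent.H81.Wat

open RingTheory.Sequence Pointwise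

/-- `S` Noetherian, `x` regular, `x ∈ q`, `(S/(x))_{q/(x)}` Gorenstein: then `S_q` is Gorenstein -/
theorem gor_atPrime_of_quotient_atPrime {S : Type u} [CommRing S] [IsNoetherianRing S]
    (x : S) (hx : IsSMulRegular S x) (q : Ideal S) [q.IsPrime] (hxq : x ∈ q)
    (hq : ∀ [(q.map (Ideal.Quotient.mk (Ideal.span {x}))).IsPrime],
      LocCoh.IsGorensteinLocalRing
        (Localization.AtPrime (q.map (Ideal.Quotient.mk (Ideal.span {x}))))) :
    LocCoh.IsGorensteinLocalRing (Localization.AtPrime q) := by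
  have hker : RingHom.ker (Ideal.Quotient.mk (Ideal.span {x})) ≤ q := by
    rw [Ideal.mk_ker, Ideal.span_le]
    intro y hy
    rw [Set.mem_singleton_iff] at hy
    rw [hy]
    exact hxq
  haveI : (q.map (Ideal.Quotient.mk (Ideal.span {x}))).IsPrime :=
    Ideal.map_isPrime_of_surjective Ideal.Quotient.mk_surjective hker
  have hqq : q = (q.map (Ideal.Quotient.mk (Ideal.span {x}))).comap
      (Ideal.Quotient.mk (Ideal.span {x})) := by
    rw [Ideal.comap_map_of_surjective _ Ideal.Quotient.mk_surjective]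
    rw [← RingHom.ker_eq_comap_bot]
    exact (sup_eq_left.mpr hker).symm
  have h2 := (Groth.Agent.H55.Gor.gor_atPrime_iff_quotient x hx _ rfl
    (q.map (Ideal.Quotient.mk (Ideal.span {x})))).mpr hq
  have hcongr : ∀ (q' : Ideal S) [q'.IsPrime], q = q' →
      LocCoh.IsGorensteinLocalRing (Localization.AtPrime q') →
      LocCoh.IsGorensteinLocalRing (Localization.AtPrime q) := by
    intro q' _ hqq' h'
    subst hqq'
    exact h'
  exact hcongr _ hqq h2

/-- if `A/(xs)` is Gorenstein for a weakly regular sequence `xs` then `A_q` is Gorenstein for every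
prime `q ⊇ (xs)`. -/
theorem gor_atPrime_of_quotient_ofList : ∀ (k : ℕ) (A : Type u) [CommRing A] [IsNoetherianRing A]
    (xs : List A), xs.length = k → IsWeaklyRegular A xs →
    LocCoh.IsGorensteinRing (A ⧸ Ideal.ofList xs) →
    ∀ (q : Ideal A) [q.IsPrime], Ideal.ofList xs ≤ q →
    LocCoh.IsGorensteinLocalRing (Localization.AtPrime q) := by
  intro k
  induction k with
  | zero =>
    intro A _ _ xs hlen _ hG q _ _
    have hxs : xs = [] := List.length_eq_zero_iff.mp hlen
    subst hxs
    have e : (A ⧸ Ideal.ofList ([] : List A)) ≃+* A :=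
      (Ideal.quotEquivOfEq Ideal.ofList_nil).trans (RingEquiv.quotientBot A)
    have hA : LocCoh.IsGorensteinRing A :=
      Groth.Agent.H81.ACILink.isGorensteinRing_of_ringEquiv e hG
    exact hA.isGorensteinLocalRing_localization q
  | succ k ih =>
    intro A _ _ xs hlen hreg hG q hq hle
    obtain ⟨x, xs', rfl⟩ : ∃ x xs', xs = x :: xs' := by
      cases xs with
      | nil => simp at hlen
      | cons x xs' => exact ⟨x, xs', rfl⟩
    have hlen' : xs'.length = k := by simpa using hlen
    rw [isWeaklyRegular_cons_iff] at hreg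
    obtain ⟨hx, hreg'⟩ := hreg
    have heq : (x • (⊤ : Submodule A A)) = Ideal.span {x} := by
      rw [← Submodule.ideal_span_singleton_smul, smul_eq_mul, Ideal.mul_top]
    have hreg1 : IsWeaklyRegular (A ⧸ Ideal.span {x}) xs' :=
      ((Submodule.quotEquivOfEq _ _ heq).isWeaklyRegular_congr xs').mp hreg'
    have hreg2 : IsWeaklyRegular (A ⧸ Ideal.span {x})
        (xs'.map (Ideal.Quotient.mk (Ideal.span {x}))) :=
      (isWeaklyRegular_map_algebraMap_iff (A ⧸ Ideal.span {x}) (A ⧸ Ideal.span {x}) xs').mpr hreg1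
    have e1 : ((A ⧸ Ideal.span {x}) ⧸ Ideal.ofList (xs'.map (Ideal.Quotient.mk (Ideal.span {x})))) ≃+*
        ((A ⧸ Ideal.span {x}) ⧸ (Ideal.ofList xs').map (Ideal.Quotient.mk (Ideal.span {x}))) :=
      Ideal.quotEquivOfEq (Ideal.map_ofList _ _).symm
    have e2 : ((A ⧸ Ideal.span {x}) ⧸ (Ideal.ofList xs').map (Ideal.Quotient.mk (Ideal.span {x}))) ≃+*
        (A ⧸ (Ideal.span {x} ⊔ Ideal.ofList xs')) :=
      DoubleQuot.quotQuotEquivQuotSup _ _
    have e3 : (A ⧸ (Ideal.span {x} ⊔ Ideal.ofList xs')) ≃+* (A ⧸ Ideal.ofList (x :: xs')) :=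
      Ideal.quotEquivOfEq (Ideal.ofList_cons x xs').symm
    have hG' : LocCoh.IsGorensteinRing
        ((A ⧸ Ideal.span {x}) ⧸ Ideal.ofList (xs'.map (Ideal.Quotient.mk (Ideal.span {x})))) :=
      Groth.Agent.H81.ACILink.isGorensteinRing_of_ringEquiv ((e1.trans e2).trans e3).symm hG
    rw [Ideal.ofList_cons, sup_le_iff] at hle
    have hxq : x ∈ q := hle.1 (Ideal.subset_span rfl)
    apply gor_atPrime_of_quotient_atPrime x hx q hxq
    intro hQ
    apply ih (A ⧸ Ideal.span {x}) (xs'.map (Ideal.Quotient.mk (Ideal.span {x})))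
      (by rw [List.length_map, hlen']) hreg2 hG'
    rw [← Ideal.map_ofList]
    exact Ideal.map_mono hle.2

end Groth.Agent.H81.Wat
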