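import Mathlib

set_option autoImplicit false
set_option linter.unusedSectionVars false
universe u v

/-!
# A subalgebra of a graded algebra stable under taking homogeneous components is graded  (helper81)
-/

namespace Groth.Agent.H81.Wat

open DirectSum

section

variable {k : Type u} [CommRing k] {R : Type v} [CommRing R] [Algebra k R]
  {ι : Type*} [DecidableEq ι] [AddMonoid ι]
  (𝒜 : ι → Submodule k R) [GradedAlgebra 𝒜] (B : Subalgebra k R)

/-- the induced pieces on a subalgebra -/
def subGr (i : ι) : Submodule k B := (𝒜 i).comap B.val.toLinearMap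

theorem mem_subGr {i : ι} {b : B} : b ∈ subGr 𝒜 B i ↔ (b : R) ∈ 𝒜 i := Iff.rfl

instance subGr_gradedMonoid : SetLike.GradedMonoid (subGr 𝒜 B) where
  one_mem := by
    rw [mem_subGr]
    exact SetLike.GradedOne.one_mem
  mul_mem := by
    intro i j a b ha hb
    rw [mem_subGr] at ha hb ⊢
    exact SetLike.GradedMul.mul_mem ha hb

theorem iSupIndep_subGr : iSupIndep (subGr 𝒜 B) := by
  have hind : iSupIndep 𝒜 := (DirectSum.Decomposition.isInternal 𝒜).submodule_iSupIndep
  intro i
  rw [disjoint_iff_inf_le]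
  intro x hx
  rw [Submodule.mem_inf] at hx
  rw [Submodule.mem_bot]
  have h1 : (x : R) ∈ 𝒜 i := hx.1
  have h2 : (x : R) ∈ ⨆ (j) (_ : j ≠ i), 𝒜 j := by
    have hle : (⨆ (j) (_ : j ≠ i), subGr 𝒜 B j) ≤
        (⨆ (j) (_ : j ≠ i), 𝒜 j).comap B.val.toLinearMap := by
      refine iSup₂_le (fun j hj => ?_)
      intro y hy
      exact Submodule.mem_iSup_of_mem j (Submodule.mem_iSup_of_mem hj hy)
    exact hle hx.2
  have h3 : (x : R) ∈ (⊥ : Submodule k R) := (disjoint_iff_inf_le.mp (hind i)) ⟨h1, h2⟩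
  rw [Submodule.mem_bot] at h3
  exact Subtype.ext h3

variable (hB : ∀ b ∈ B, ∀ i, ((decompose 𝒜 b) i : R) ∈ B)

include hB in
theorem iSup_subGr_eq_top : ⨆ i, subGr 𝒜 B i = ⊤ := by
  classical
  rw [eq_top_iff]
  intro b _
  have h1 := DirectSum.sum_support_decompose 𝒜 (b : R)
  have h2 : b = ∑ i ∈ (decompose 𝒜 (b : R)).support,
      (⟨((decompose 𝒜 (b : R)) i : R), hB b b.2 i⟩ : B) := by
    apply Subtype.ext
    rw [AddSubmonoidClass.coe_finsetSum]
    exact h1.symm
  rw [h2]
  refine Submodule.sum_mem _ (fun i _ => Submodule.mem_iSup_of_mem i ?_)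
  rw [mem_subGr]
  exact SetLike.coe_mem _

include hB in
theorem isInternal_subGr : DirectSum.IsInternal (subGr 𝒜 B) :=
  (DirectSum.isInternal_submodule_iff_iSupIndep_and_iSup_eq_top _).mpr
    ⟨iSupIndep_subGr 𝒜 B, iSup_subGr_eq_top 𝒜 B hB⟩

/-- the induced grading on a subalgebra stable under homogeneous components -/
@[instance_reducible]
noncomputable def subGr_gradedAlgebra : GradedAlgebra (subGr 𝒜 B) :=
  { subGr_gradedMonoid 𝒜 B with
    toDecomposition := (isInternal_subGr 𝒜 B hB).chooseDecomposition }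

end

end Groth.Agent.H81.Wat
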