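import Mathlib
import Groth.Agent.H81.Wat.Action
import Groth.Agent.H81.Wat.GradedSub
import Groth.Agent.H85.GradedHSOP

set_option autoImplicit false
set_option linter.unusedSectionVars false
set_option linter.unusedVariables false
set_option linter.style.haveILetI false
universe u

/-!
# The ring of invariants of a linear action as a graded algebra  (helper81)
-/

namespace Groth.Agent.H81.Wat

open MvPolynomial GrSyz Groth.Agent.H77 Groth.Agent.H85.GradedNN

section ChainBound

variable {A R : Type*} [CommRing A] [CommRing R] [Algebra A R] [Algebra.IsIntegral A R]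

/-- chains of primes in `A` lift to an integral extension, so are bounded by its dimension -/
theorem chainBound_of_isIntegral (hinj : Function.Injective (algebraMap A R)) (m : ℕ)
    (hR : ringKrullDim R ≤ m) : ChainBound (⊥ : Ideal A) m := by
  intro l _
  have : FaithfulSMul A R := (faithfulSMul_iff_algebraMap_injective A R).mpr hinj
  obtain ⟨⟨P, hP, hPl⟩⟩ := Ideal.nonempty_primesOver (S := R) l.head.asIdeal
  have := hP
  have := hPl
  obtain ⟨L, hLlen, -, -⟩ := Ideal.exists_ltSeries_of_hasGoingUp l P
  have h1 : (L.length : WithBot ℕ∞) ≤ ringKrullDim R := Order.LTSeries.length_le_krullDim L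
  have h2 := h1.trans hR
  rw [hLlen] at h2
  exact_mod_cast h2

end ChainBound

section Retract

variable {A R : Type*} [CommRing A] [CommRing R] [Algebra A R]

/-- contraction of extended ideals along a module retraction -/
theorem mem_of_algebraMap_mem_map (E : R →ₗ[A] A) (hE : ∀ a, E (algebraMap A R a) = a)
    (I : Ideal A) (a : A) (ha : algebraMap A R a ∈ I.map (algebraMap A R)) : a ∈ I := by
  have h1 : algebraMap A R a ∈ (I • (⊤ : Submodule A R)) := by
    rw [Ideal.smul_top_eq_map]
    exact ha
  have h2 : E (algebraMap A R a) ∈ (I • (⊤ : Submodule A R)).map E := Submodule.mem_map_of_mem h1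
  rw [Submodule.map_smul'', hE] at h2
  have h3 : I • Submodule.map E (⊤ : Submodule A R) ≤ I := by
    refine Submodule.smul_le.mpr (fun i hi r _ => ?_)
    exact Ideal.mul_mem_right _ _ hi
  exact h3 h2

/-- a ring which is a module retract of a Noetherian algebra over it is Noetherian -/
theorem isNoetherianRing_of_retract [IsNoetherianRing R] (E : R →ₗ[A] A)
    (hE : ∀ a, E (algebraMap A R a) = a) : IsNoetherianRing A := by
  have hcontr : ∀ (I : Ideal A) (a : A), algebraMap A R a ∈ I.map (algebraMap A R) → a ∈ I :=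
    mem_of_algebraMap_mem_map E hE
  have hmono : StrictMono (fun I : Ideal A => I.map (algebraMap A R)) := by
    intro I I' hlt
    refine lt_of_le_of_ne (Ideal.map_mono hlt.le) (fun heq => ?_)
    apply hlt.not_ge
    intro a ha
    apply hcontr I a
    have : I.map (algebraMap A R) = I'.map (algebraMap A R) := heq
    rw [this]
    exact Ideal.mem_map_of_mem _ ha
  have : WellFoundedGT (Ideal A) := hmono.wellFoundedGT
  exact isNoetherian_iff'.mpr this

end Retract

section Inv

variable {k : Type u} [Field k] {n : ℕ} {G : Type u} [Group G] [Fintype G]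
  [MulSemiringAction G (MvPolynomial (Fin n) k)]
  (M : G → Matrix (Fin n) (Fin n) k)
  (hC : ∀ (g : G) (c : k), g • (C c : MvPolynomial (Fin n) k) = C c)
  (hX : ∀ (g : G) (i : Fin n), g • (X i : MvPolynomial (Fin n) k) =
    ∑ j, M g j i • (X j : MvPolynomial (Fin n) k))
  (hcard : ((Fintype.card G : ℕ) : k) ≠ 0)

/-- the grading of the ring of invariants -/
noncomputable abbrev grInv : ℤ → Submodule k (Inv hC) := subGr (stdGr k (Fin n)) (Inv hC)

include hX in
/-- the grading of the ring of invariants is a grading -/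
@[instance_reducible]
noncomputable def grInv_gradedAlgebra : GradedAlgebra (grInv hC) :=
  subGr_gradedAlgebra (stdGr k (Fin n)) (Inv hC) (fun b hb d => comp_mem_Inv M hC hX hb d)

theorem grInv_neg (d : ℤ) (hd : d < 0) : grInv hC d = ⊥ := by
  rw [eq_bot_iff]
  intro b hb
  rw [Submodule.mem_bot]
  exact Subtype.ext (eq_zero_of_mem_stdGr_of_neg (mem_subGr _ _ |>.mp hb) hd)

theorem grInv_zero : grInv hC 0 = Submodule.span k {(1 : Inv hC)} := by
  apply le_antisymm
  · intro b hb
    have h1 := eq_C_of_mem_stdGr_of_nonpos (mem_subGr _ _ |>.mp hb) le_rfl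
    rw [Submodule.mem_span_singleton]
    refine ⟨constantCoeff (b : MvPolynomial (Fin n) k), Subtype.ext ?_⟩
    rw [h1]
    simp [MvPolynomial.smul_eq_C_mul]
  · rw [Submodule.span_le]
    rintro _ rfl
    exact (subGr_gradedMonoid (stdGr k (Fin n)) (Inv hC)).one_mem

instance isInvariant_Inv : Algebra.IsInvariant (Inv hC) (MvPolynomial (Fin n) k) G where
  isInvariant b hb := ⟨⟨b, hb⟩, rfl⟩

instance isIntegral_Inv : Algebra.IsIntegral (Inv hC) (MvPolynomial (Fin n) k) :=
  Algebra.IsInvariant.isIntegral (Inv hC) (MvPolynomial (Fin n) k) G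

/-- the Reynolds operator as a retraction onto the invariants, linear over the invariants -/
noncomputable def reyInv : MvPolynomial (Fin n) k →ₗ[Inv hC] Inv hC where
  toFun f := ⟨rey hC f, rey_mem_Inv hC f⟩
  map_add' f f' := Subtype.ext (map_add _ f f')
  map_smul' a f := Subtype.ext (rey_mul_of_mem hC a.2 f)

include hcard in
theorem reyInv_algebraMap (a : Inv hC) : reyInv hC (algebraMap (Inv hC) (MvPolynomial (Fin n) k) a) = a :=
  Subtype.ext (rey_of_mem hC hcard a.2)

include hcard in
theorem isNoetherianRing_Inv : IsNoetherianRing (Inv hC) :=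
  isNoetherianRing_of_retract (reyInv hC) (reyInv_algebraMap hC hcard)

theorem ringKrullDim_mvPolynomial_le : ringKrullDim (MvPolynomial (Fin n) k) ≤ n := by
  rw [MvPolynomial.ringKrullDim_of_isNoetherianRing, ringKrullDim_eq_zero_of_field, zero_add,
    Nat.card_fin]

theorem chainBound_Inv : ChainBound (⊥ : Ideal (Inv hC)) n :=
  chainBound_of_isIntegral (R := MvPolynomial (Fin n) k) Subtype.val_injective n
    ringKrullDim_mvPolynomial_le

theorem constantCoeff_comp_zero (f : MvPolynomial (Fin n) k) :
    constantCoeff (comp 0 f) = constantCoeff f := by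
  obtain ⟨T, hT⟩ := sum_comp f
  classical
  have h1 : constantCoeff f = ∑ a ∈ T, constantCoeff (comp a f) := by
    conv_lhs => rw [← hT]
    rw [map_sum]
  have h2 : ∀ a ∈ T, constantCoeff (comp a f) = if a = 0 then constantCoeff (comp 0 f) else 0 := by
    intro a _
    by_cases ha : a = 0
    · subst ha
      rw [if_pos rfl]
    · rw [if_neg ha]
      exact constantCoeff_eq_zero_of_mem_stdGr_of_ne (comp_mem a f) ha
  rw [h1, Finset.sum_congr rfl h2, Finset.sum_ite_eq']
  split_ifs with h0
  · rfl
  · -- `0 ∉ T`, so `comp 0 f = 0`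
    have : comp 0 f = 0 := by
      have h3 : comp 0 f = ∑ a ∈ T, comp 0 (comp a f) := by
        conv_lhs => rw [← hT]
        rw [comp_sum]
      rw [h3]
      refine Finset.sum_eq_zero (fun a ha => ?_)
      have : a ≠ 0 := fun h => h0 (h ▸ ha)
      exact comp_of_mem_ne (comp_mem a f) this
    rw [this, map_zero]

include hX in
/-- invariants without constant term lie in the irrelevant ideal of the ring of invariants -/
theorem mem_irr_of_constantCoeff_eq_zero [GradedAlgebra (grInv hC)] (f : Inv hC)
    (hf : constantCoeff (f : MvPolynomial (Fin n) k) = 0) : f ∈ irr (grInv hC) := by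
  obtain ⟨T, hT⟩ := sum_comp (f : MvPolynomial (Fin n) k)
  have h1 : f = ∑ a ∈ T, (⟨comp a (f : MvPolynomial (Fin n) k), comp_mem_Inv M hC hX f.2 a⟩ :
      Inv hC) := by
    apply Subtype.ext
    rw [AddSubmonoidClass.coe_finsetSum]
    exact hT.symm
  rw [h1]
  refine Ideal.sum_mem _ (fun a _ => ?_)
  rcases lt_trichotomy a 0 with ha | ha | ha
  · have : comp a (f : MvPolynomial (Fin n) k) = 0 :=
      eq_zero_of_mem_stdGr_of_neg (comp_mem a _) ha
    have e : (⟨comp a (f : MvPolynomial (Fin n) k), comp_mem_Inv M hC hX f.2 a⟩ : Inv hC) = 0 :=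
      Subtype.ext this
    rw [e]
    exact zero_mem _
  · subst ha
    have : comp 0 (f : MvPolynomial (Fin n) k) = 0 :=
      eq_zero_of_mem_stdGr_of_nonpos (comp_mem 0 _) le_rfl
        (by rw [constantCoeff_comp_zero, hf])
    have e : (⟨comp 0 (f : MvPolynomial (Fin n) k), comp_mem_Inv M hC hX f.2 0⟩ : Inv hC) = 0 :=
      Subtype.ext this
    rw [e]
    exact zero_mem _
  · apply PosHom.mem_irr
    exact ⟨a, ha, comp_mem a _⟩

include hX hcard in
/-- **homogeneous parameters in the ring of invariants** -/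
theorem exists_hsop_Inv : ∃ θ : Fin n → MvPolynomial (Fin n) k, (∀ i, θ i ∈ Inv hC) ∧
    (∀ i, ∃ d : ℤ, 0 < d ∧ θ i ∈ stdGr k (Fin n) d) ∧
    ∀ f ∈ Inv hC, constantCoeff f = 0 → f ∈ (Ideal.span (Set.range θ)).radical := by
  letI := grInv_gradedAlgebra M hC hX
  haveI := isNoetherianRing_Inv hC hcard
  obtain ⟨θ, hθ, hrad⟩ := exists_hsop (grInv hC) (grInv_neg hC) (grInv_zero hC) n ⊥
    (Ideal.IsHomogeneous.bot _) (chainBound_Inv hC)
  rw [bot_sup_eq] at hrad
  refine ⟨fun i => (θ i : MvPolynomial (Fin n) k), fun i => (θ i).2, fun i => hθ i, ?_⟩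
  intro f hf hf0
  obtain ⟨N, hN⟩ := hrad (mem_irr_of_constantCoeff_eq_zero M hC hX ⟨f, hf⟩ hf0)
  refine ⟨N, ?_⟩
  have h1 := Ideal.mem_map_of_mem (Inv hC).val.toRingHom hN
  rw [Ideal.map_span, ← Set.range_comp] at h1
  exact h1

end Inv

end Groth.Agent.H81.Wat
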