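import Mathlib
import Groth.Agent.H81.Wat.Wiebe
import Groth.Agent.H81.CIGor2
import Groth.Agent.H98.Canon.WPoly
import Groth.Agent.H54.Catenary

set_option autoImplicit false
set_option linter.unusedSectionVars false
set_option linter.unusedVariables false
set_option linter.style.haveILetI false
universe u

/-!
# Wiebe's determinant in a polynomial ring  (helper81)

`θ_1, …, θ_n` polynomials without constant term in `S = k[X_1, …, X_n]` generating an ideal primary
to `(X_1, …, X_n)`, `θ = a X`.  Then `det a · X_j ∈ (θ)` and `det a ∉ (θ)`.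
-/

namespace Groth.Agent.H81.Wat

open MvPolynomial Matrix IsLocalRing

variable {k : Type u} [Field k] {n : ℕ}

/-- Cramer's rule: `det a · x_j ∈ (a x)` -/
theorem det_mul_mem {R : Type*} [CommRing R] (θ x : Fin n → R) (a : Matrix (Fin n) (Fin n) R)
    (ha : a *ᵥ x = θ) (j : Fin n) : a.det * x j ∈ Ideal.span (Set.range θ) := by
  have h1 : (a.det • (1 : Matrix (Fin n) (Fin n) R)) *ᵥ x = a.adjugate *ᵥ (a *ᵥ x) := by
    rw [← adjugate_mul, mulVec_mulVec]
  have h2 := congrFun h1 j
  rw [smul_mulVec, one_mulVec, Pi.smul_apply, smul_eq_mul, ha] at h2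
  rw [h2, mulVec, dotProduct]
  exact Ideal.sum_mem _ (fun l _ => Ideal.mul_mem_left _ _ (Ideal.subset_span ⟨l, rfl⟩))

theorem ker_constantCoeff_eq_span :
    RingHom.ker (constantCoeff : MvPolynomial (Fin n) k →+* k) =
      Ideal.span (Set.range (X : Fin n → MvPolynomial (Fin n) k)) := by
  apply le_antisymm
  · intro p hp
    rw [RingHom.mem_ker] at hp
    rw [← Set.image_univ, mem_ideal_span_X_image]
    intro m hm
    have hm0 : m ≠ 0 := by
      rintro rfl
      rw [mem_support_iff] at hm
      exact hm hp
    obtain ⟨i, hi⟩ := Finsupp.ne_iff.1 hm0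
    exact ⟨i, Set.mem_univ _, by simpa using hi⟩
  · rw [Ideal.span_le]
    rintro _ ⟨i, rfl⟩
    rw [SetLike.mem_coe, RingHom.mem_ker, constantCoeff_X]

instance ker_constantCoeff_isMaximal :
    (RingHom.ker (constantCoeff : MvPolynomial (Fin n) k →+* k)).IsMaximal :=
  RingHom.ker_isMaximal_of_surjective _ (fun c => ⟨C c, constantCoeff_C _ c⟩)

/-- polynomials without constant term generating an ideal primary to the irrelevant ideal form a
regular sequence in the local ring at the origin -/
theorem isWeaklyRegular_localization (θ : Fin n → MvPolynomial (Fin n) k)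
    (hθ0 : ∀ i, constantCoeff (θ i) = 0)
    (hrad : ∀ i, (X i : MvPolynomial (Fin n) k) ∈ (Ideal.span (Set.range θ)).radical) :
    RingTheory.Sequence.IsWeaklyRegular
      (Localization.AtPrime (RingHom.ker (constantCoeff : MvPolynomial (Fin n) k →+* k)))
      (List.ofFn (fun i => algebraMap (MvPolynomial (Fin n) k)
        (Localization.AtPrime (RingHom.ker (constantCoeff : MvPolynomial (Fin n) k →+* k)))
        (θ i))) := by
  set m : Ideal (MvPolynomial (Fin n) k) := RingHom.ker (constantCoeff : MvPolynomial (Fin n) k →+* k)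
    with hm
  haveI hmmax : m.IsMaximal := ker_constantCoeff_isMaximal
  haveI hmp : m.IsPrime := hmmax.isPrime
  let R := Localization.AtPrime m
  let φ : MvPolynomial (Fin n) k →+* R := algebraMap _ R
  have hCM : LocCoh.IsCohenMacaulayLocalRing R :=
    (Groth.Agent.H98.Canon.isCohenMacaulayRing_mvPolynomial k n).isCohenMacaulayLocalRing_localization m
  haveI : IsNoetherianRing R := IsLocalization.isNoetherianRing m.primeCompl R inferInstance
  set θ' : Fin n → R := fun i => φ (θ i) with hθ'
  have hθ'm : ∀ i, θ' i ∈ maximalIdeal R := by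
    intro i
    rw [hθ', ← Localization.AtPrime.map_eq_maximalIdeal]
    apply Ideal.mem_map_of_mem
    exact (RingHom.mem_ker).mpr (hθ0 i)
  have hspan : Ideal.span (Set.range θ') = (Ideal.span (Set.range θ)).map φ := by
    rw [Ideal.map_span, ← Set.range_comp]
    rfl
  -- the height
  have hht : (n : ℕ∞) ≤ (Ideal.span (Set.range θ')).height := by
    rw [Ideal.height_eq_inf_minimalPrimes]
    refine le_iInf₂ (fun P hP => ?_)
    haveI hPp : P.IsPrime := hP.1.1
    have hPle : Ideal.span (Set.range θ') ≤ P := hP.1.2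
    have h1 : Ideal.span (Set.range θ) ≤ P.comap φ := by
      rw [← Ideal.map_le_iff_le_comap, ← hspan]
      exact hPle
    have h2 : m ≤ P.comap φ := by
      refine le_trans (le_of_eq ker_constantCoeff_eq_span) (Ideal.span_le.mpr ?_)
      rintro _ ⟨i, rfl⟩
      have hprime : (P.comap φ).IsPrime := Ideal.comap_isPrime φ P
      exact (hprime.radical_le_iff.mpr h1) (hrad i)
    have h3 : P.comap φ = m := (hmmax.eq_of_le (Ideal.comap_isPrime φ P).ne_top h2).symm
    have h4 : P = maximalIdeal R := by
      calc P = (P.comap φ).map φ := (IsLocalization.map_under m.primeCompl R P).symm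
        _ = m.map φ := congrArg (Ideal.map φ) h3
        _ = maximalIdeal R := Localization.AtPrime.map_eq_maximalIdeal
    have h5 : ((maximalIdeal R).height : WithBot ℕ∞) = (m.height : WithBot ℕ∞) := by
      rw [IsLocalRing.maximalIdeal_height_eq_ringKrullDim,
        IsLocalization.AtPrime.ringKrullDim_eq_height m R]
    have h6 : (maximalIdeal R).height = m.height := WithBot.coe_injective h5
    rw [h4, h6, Groth.Agent.H54.height_of_isMaximal_mvPolynomial k n m]
  exact Groth.Agent.H81.CIGor.isWeaklyRegular_ofFn_of_height R hCM n θ' hθ'm hht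

/-- **Wiebe's determinant is not in `(θ)`** -/
theorem det_notMem (θ : Fin n → MvPolynomial (Fin n) k)
    (hrad : ∀ i, (X i : MvPolynomial (Fin n) k) ∈ (Ideal.span (Set.range θ)).radical)
    (a : Matrix (Fin n) (Fin n) (MvPolynomial (Fin n) k))
    (ha : a *ᵥ (X : Fin n → MvPolynomial (Fin n) k) = θ) :
    a.det ∉ Ideal.span (Set.range θ) := by
  intro hdet
  have hθ0 : ∀ i, constantCoeff (θ i) = 0 := by
    intro i
    rw [← ha, mulVec, dotProduct, map_sum]
    refine Finset.sum_eq_zero (fun j _ => ?_)
    rw [map_mul, constantCoeff_X, mul_zero]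
  have hreg := isWeaklyRegular_localization θ hθ0 hrad
  set m : Ideal (MvPolynomial (Fin n) k) := RingHom.ker (constantCoeff : MvPolynomial (Fin n) k →+* k)
    with hm
  haveI hmmax : m.IsMaximal := ker_constantCoeff_isMaximal
  haveI hmp : m.IsPrime := hmmax.isPrime
  let R := Localization.AtPrime m
  let φ : MvPolynomial (Fin n) k →+* R := algebraMap _ R
  haveI : IsNoetherianRing R := IsLocalization.isNoetherianRing m.primeCompl R inferInstance
  set θ' : Fin n → R := fun i => φ (θ i) with hθ'
  set x' : Fin n → R := fun i => φ (X i) with hx'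
  have hx'm : ∀ i, x' i ∈ maximalIdeal R := by
    intro i
    rw [hx', ← Localization.AtPrime.map_eq_maximalIdeal]
    apply Ideal.mem_map_of_mem
    exact (RingHom.mem_ker).mpr (constantCoeff_X (R := k) i)
  have ha' : a.map φ *ᵥ x' = θ' := by
    funext i
    have := RingHom.map_mulVec φ a (X : Fin n → MvPolynomial (Fin n) k) i
    rw [ha] at this
    exact this.symm
  have hspan : Ideal.span (Set.range θ') = (Ideal.span (Set.range θ)).map φ := by
    rw [Ideal.map_span, ← Set.range_comp]
    rfl
  have h1 : (1 : R) * (a.map φ).det ∈ Ideal.span (Set.range θ') := by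
    rw [one_mul, hspan]
    have := RingHom.map_det φ a
    rw [RingHom.mapMatrix_apply] at this
    rw [← this]
    exact Ideal.mem_map_of_mem φ hdet
  have h2 := wiebe θ' x' hreg hx'm (a.map φ) ha' 1 h1
  have h3 : Ideal.span (Set.range x') ≤ maximalIdeal R := by
    rw [Ideal.span_le]
    rintro _ ⟨i, rfl⟩
    exact hx'm i
  exact (Ideal.ne_top_iff_one _).mp (Ideal.IsPrime.ne_top') (h3 h2)

end Groth.Agent.H81.Wat
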