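import Mathlib
import Groth.Agent.H81.Wat.WiebePoly
import Groth.Agent.H81.Wat.InvGraded

set_option autoImplicit false
set_option linter.unusedSectionVars false
set_option linter.unusedVariables false
set_option linter.style.haveILetI false
universe u

/-!
# Homogeneous regular sequences in a polynomial ring can be tested at the origin  (helper81)
-/

namespace Groth.Agent.H81.Wat

open MvPolynomial GrSyz Groth.Agent.H77 RingTheory.Sequence

variable {k : Type u} [Field k] {n : ℕ}

/-- a homogeneous element which is a nonzerodivisor modulo a homogeneous ideal after localizing at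
the origin is a nonzerodivisor modulo that ideal -/
theorem regMod_of_localization (I : Ideal (MvPolynomial (Fin n) k))
    (hI : I.IsHomogeneous (stdGr k (Fin n))) (t : MvPolynomial (Fin n) k) (e : ℤ)
    (ht : t ∈ stdGr k (Fin n) e)
    (hloc : RegMod (I.map (algebraMap (MvPolynomial (Fin n) k)
      (Localization.AtPrime (RingHom.ker (constantCoeff : MvPolynomial (Fin n) k →+* k)))))
      (algebraMap (MvPolynomial (Fin n) k)
      (Localization.AtPrime (RingHom.ker (constantCoeff : MvPolynomial (Fin n) k →+* k))) t)) :
    RegMod I t := by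
  set m : Ideal (MvPolynomial (Fin n) k) := RingHom.ker (constantCoeff : MvPolynomial (Fin n) k →+* k)
    with hm
  intro u hu
  -- reduce to homogeneous `u`
  have hcomp : ∀ d : ℤ, comp d u ∈ I := by
    intro d
    set v := comp d u with hv
    have hvmem : v ∈ stdGr k (Fin n) d := comp_mem d u
    have htv : t * v ∈ I := by
      have := hI (e + d) hu
      change comp (e + d) (t * u) ∈ I at this
      rwa [comp_mul_of_left_mem ht] at this
    have h1 : algebraMap _ (Localization.AtPrime m) v ∈ I.map (algebraMap _ (Localization.AtPrime m)) := by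
      apply hloc
      rw [← map_mul]
      exact Ideal.mem_map_of_mem _ htv
    rw [IsLocalization.mem_map_algebraMap_iff m.primeCompl] at h1
    obtain ⟨⟨i, s⟩, hs⟩ := h1
    rw [← map_mul, IsLocalization.eq_iff_exists m.primeCompl] at hs
    obtain ⟨s', hs'⟩ := hs
    -- `(s' s) v ∈ I`
    have h2 : v * ((s' : MvPolynomial (Fin n) k) * (s : MvPolynomial (Fin n) k)) ∈ I := by
      have : v * ((s' : MvPolynomial (Fin n) k) * (s : MvPolynomial (Fin n) k)) =
          (s' : MvPolynomial (Fin n) k) * (v * (s : MvPolynomial (Fin n) k)) := by ring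
      rw [this, hs']
      exact Ideal.mul_mem_left _ _ i.2
    set w := (s' : MvPolynomial (Fin n) k) * (s : MvPolynomial (Fin n) k) with hw
    have hwm : w ∉ m := (s' * s).2
    have h3 := hI (d + 0) h2
    change comp (d + 0) (v * w) ∈ I at h3
    rw [comp_mul_of_left_mem hvmem] at h3
    have h4 : comp 0 w = C (constantCoeff w) := by
      have := eq_C_of_mem_stdGr_of_nonpos (comp_mem 0 w) le_rfl
      rw [constantCoeff_comp_zero] at this
      exact this
    have hc : constantCoeff w ≠ 0 := fun h => hwm ((RingHom.mem_ker).mpr h)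
    rw [h4] at h3
    have h5 : v = C (constantCoeff w)⁻¹ * (v * C (constantCoeff w)) := by
      rw [mul_comm v, ← mul_assoc, ← map_mul, inv_mul_cancel₀ hc, map_one, one_mul]
    rw [h5]
    exact Ideal.mul_mem_left _ _ h3
  obtain ⟨T, hT⟩ := sum_comp u
  rw [← hT]
  exact Ideal.sum_mem _ (fun d _ => hcomp d)

/-- a sequence of homogeneous polynomials which is regular in the local ring at the origin is
regular -/
theorem isWeaklyRegular_of_localization (rs : List (MvPolynomial (Fin n) k))
    (hrs : ∀ r ∈ rs, ∃ e : ℤ, r ∈ stdGr k (Fin n) e)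
    (h : IsWeaklyRegular
      (Localization.AtPrime (RingHom.ker (constantCoeff : MvPolynomial (Fin n) k →+* k)))
      (rs.map (algebraMap (MvPolynomial (Fin n) k)
        (Localization.AtPrime (RingHom.ker (constantCoeff : MvPolynomial (Fin n) k →+* k)))))) :
    IsWeaklyRegular (MvPolynomial (Fin n) k) rs := by
  rw [isWeaklyRegular_iff] at h ⊢
  intro i hi
  rw [← regMod_iff]
  obtain ⟨e, he⟩ := hrs rs[i] (List.getElem_mem hi)
  have hI : (Ideal.ofList (rs.take i)).IsHomogeneous (stdGr k (Fin n)) := by
    apply Ideal.homogeneous_span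
    intro x hx
    obtain ⟨e', he'⟩ := hrs x (List.mem_of_mem_take hx)
    exact ⟨e', he'⟩
  apply regMod_of_localization _ hI rs[i] e he
  have h1 := h i (by rw [List.length_map]; exact hi)
  rw [← regMod_iff] at h1
  rw [Ideal.map_ofList, List.map_take]
  rw [List.getElem_map] at h1
  exact h1

/-- homogeneous polynomials of positive degree generating an ideal primary to the irrelevant ideal
form a regular sequence -/
theorem isWeaklyRegular_of_radical (θ : Fin n → MvPolynomial (Fin n) k)
    (hθpos : ∀ i, ∃ d : ℤ, 0 < d ∧ θ i ∈ stdGr k (Fin n) d)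
    (hrad : ∀ i, (X i : MvPolynomial (Fin n) k) ∈ (Ideal.span (Set.range θ)).radical) :
    IsWeaklyRegular (MvPolynomial (Fin n) k) (List.ofFn θ) := by
  apply isWeaklyRegular_of_localization
  · intro r hr
    rw [List.mem_ofFn] at hr
    obtain ⟨i, rfl⟩ := hr
    obtain ⟨d, -, hd⟩ := hθpos i
    exact ⟨d, hd⟩
  · rw [List.map_ofFn]
    apply isWeaklyRegular_localization θ _ hrad
    intro i
    obtain ⟨d, hd0, hd⟩ := hθpos i
    exact constantCoeff_eq_zero_of_mem_stdGr_of_pos hd hd0

end Groth.Agent.H81.Wat
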