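import Mathlib
import Groth.Agent.H26.ArtSocle

set_option autoImplicit false
set_option linter.unusedSectionVars false
set_option linter.unusedVariables false
set_option linter.style.haveILetI false
universe u

/-!
# Socles of Artinian quotients  (helper81)
-/

namespace Groth.Agent.H81.Wat

open Groth.Agent.H26.ArtSocle

section Quot

variable {R : Type u} [CommRing R] (I m : Ideal R) [hm : m.IsMaximal]

/-- every prime of `R/I` lies over `m` if `m ⊆ √I` -/
theorem comap_eq_of_le_radical (h : m ≤ I.radical) (Q : Ideal (R ⧸ I)) [hQ : Q.IsPrime] :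
    Q.comap (Ideal.Quotient.mk I) = m := by
  have hprime : (Q.comap (Ideal.Quotient.mk I)).IsPrime := Ideal.comap_isPrime _ Q
  have h1 : I ≤ Q.comap (Ideal.Quotient.mk I) := by
    intro x hx
    rw [Ideal.mem_comap, Ideal.Quotient.eq_zero_iff_mem.mpr hx]
    exact zero_mem _
  have h2 : m ≤ Q.comap (Ideal.Quotient.mk I) := h.trans (hprime.radical_le_iff.mpr h1)
  exact (hm.eq_of_le hprime.ne_top h2).symm

theorem isMaximal_of_le_radical (h : m ≤ I.radical) (Q : Ideal (R ⧸ I)) [hQ : Q.IsPrime] :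
    Q.IsMaximal := by
  apply Ideal.isMaximal_of_isIntegral_of_isMaximal_comap (R := R) (S := R ⧸ I) Q
  have := comap_eq_of_le_radical I m h Q
  change (Q.comap (Ideal.Quotient.mk I)).IsMaximal
  rw [this]
  exact hm

/-- `R/I` is Artinian if `√I` contains a maximal ideal -/
theorem isArtinianRing_quotient_of_le_radical [IsNoetherianRing R] (h : m ≤ I.radical) :
    IsArtinianRing (R ⧸ I) := by
  haveI : Ring.KrullDimLE 0 (R ⧸ I) := Ring.krullDimLE_zero_iff.mpr
    (fun Q hQ => isMaximal_of_le_radical I m h Q)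
  exact IsNoetherianRing.isArtinianRing_of_krullDimLE_zero

end Quot

section Ess

variable {B : Type u} [CommRing B] (𝔪 : Ideal B) [h𝔪 : 𝔪.IsMaximal]

/-- in a ring with nilpotent maximal ideal `𝔪` whose socle is generated by `z`, every nonzero ideal
contains the socle. -/
theorem mem_span_of_socle (N : ℕ) (hN : 𝔪 ^ N = ⊥) (z : B) (hz : IsSocGenAt 𝔪 z) (δ : B)
    (hδ : ∀ y ∈ 𝔪, y * δ = 0) (b : B) (hb : b ≠ 0) : δ ∈ Ideal.span {b} := by
  classical
  -- least `j` with `𝔪^j b = 0`
  have hex : ∃ j, ∀ w ∈ 𝔪 ^ j, w * b = 0 := ⟨N, fun w hw => by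
    rw [hN, Ideal.mem_bot] at hw
    rw [hw, zero_mul]⟩
  set j := Nat.find hex with hj
  have hj1 : ∀ w ∈ 𝔪 ^ j, w * b = 0 := Nat.find_spec hex
  have hj0 : j ≠ 0 := by
    intro h0
    apply hb
    have := hj1 1 (by rw [h0, pow_zero, Ideal.one_eq_top]; trivial)
    rwa [one_mul] at this
  obtain ⟨j', hj'⟩ := Nat.exists_eq_succ_of_ne_zero hj0
  have hmin : ¬ ∀ w ∈ 𝔪 ^ j', w * b = 0 := Nat.find_min hex (by omega)
  push Not at hmin
  obtain ⟨w, hw, hwb⟩ := hmin
  have hsoc : ∀ y ∈ 𝔪, y * (w * b) = 0 := by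
    intro y hy
    rw [← mul_assoc]
    apply hj1
    rw [hj', pow_succ, mul_comm y w]
    exact Ideal.mul_mem_mul hw hy
  obtain ⟨u, hu⟩ := hz.2.2 (w * b) hsoc
  have hunm : u ∉ 𝔪 := by
    intro hum
    apply hwb
    rw [hu, hz.2.1 u hum]
  obtain ⟨u', e, he, hue⟩ := h𝔪.exists_inv hunm
  have hzb : z ∈ Ideal.span {b} := by
    have : z = u' * w * b := by
      calc z = (u' * u + e) * z := by rw [hue, one_mul]
        _ = u' * (u * z) + e * z := by ring
        _ = u' * (w * b) + 0 := by rw [← hu, hz.2.1 e he]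
        _ = u' * w * b := by ring
    rw [this]
    exact Ideal.mul_mem_left _ _ (Ideal.subset_span rfl)
  obtain ⟨v, hv⟩ := hz.2.2 δ hδ
  rw [hv]
  exact Ideal.mul_mem_left _ _ hzb

end Ess

end Groth.Agent.H81.Wat
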