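import Mathlib
import Groth.Agent.H81.Wat.Action
import Groth.Agent.H81.Wat.InvGraded
import Groth.Agent.H81.Wat.WiebePoly
import Groth.Agent.H81.Wat.Socle

set_option autoImplicit false
set_option linter.unusedSectionVars false
set_option linter.unusedVariables false
set_option linter.style.haveILetI false
universe u

/-!
# The quotient of the ring of invariants of a finite subgroup of `SL_n` by homogeneous parameters is
Gorenstein  (helper81)
-/

namespace Groth.Agent.H81.Wat

open MvPolynomial GrSyz Groth.Agent.H77 Groth.Agent.H26.ArtSocle Matrix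

section BSide

variable {k : Type u} [Field k] {n : ℕ}

theorem le_radical_of_X_mem (J : Ideal (MvPolynomial (Fin n) k))
    (hXrad : ∀ i, (X i : MvPolynomial (Fin n) k) ∈ J.radical) :
    RingHom.ker (constantCoeff : MvPolynomial (Fin n) k →+* k) ≤ J.radical := by
  rw [ker_constantCoeff_eq_span, Ideal.span_le]
  rintro _ ⟨i, rfl⟩
  exact hXrad i

theorem height_span_of_radical (θ : Fin n → MvPolynomial (Fin n) k)
    (hXrad : ∀ i, (X i : MvPolynomial (Fin n) k) ∈ (Ideal.span (Set.range θ)).radical) :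
    (n : ℕ∞) ≤ (Ideal.span (Set.range θ)).height := by
  rw [Ideal.height_eq_inf_minimalPrimes]
  refine le_iInf₂ (fun P hP => ?_)
  haveI hPp : P.IsPrime := hP.1.1
  have h2 : RingHom.ker (constantCoeff : MvPolynomial (Fin n) k →+* k) ≤ P :=
    (le_radical_of_X_mem _ hXrad).trans (hPp.radical_le_iff.mpr hP.1.2)
  have h3 : P = RingHom.ker (constantCoeff : MvPolynomial (Fin n) k →+* k) :=
    (ker_constantCoeff_isMaximal.eq_of_le hPp.ne_top h2).symm
  rw [h3, Groth.Agent.H54.height_of_isMaximal_mvPolynomial k n _]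

/-- in `B = S/(θ)`, every nonzero ideal contains the class of an element `Δ` killed by the
irrelevant ideal. -/
theorem exists_sub_mul_mem (θ : Fin n → MvPolynomial (Fin n) k)
    (hθ0 : ∀ i, constantCoeff (θ i) = 0)
    (hXrad : ∀ i, (X i : MvPolynomial (Fin n) k) ∈ (Ideal.span (Set.range θ)).radical)
    (Δ : MvPolynomial (Fin n) k)
    (hΔm : ∀ f : MvPolynomial (Fin n) k, constantCoeff f = 0 → Δ * f ∈ Ideal.span (Set.range θ))
    (t : MvPolynomial (Fin n) k) (ht : t ∉ Ideal.span (Set.range θ)) :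
    ∃ f : MvPolynomial (Fin n) k, Δ - f * t ∈ Ideal.span (Set.range θ) := by
  set J := Ideal.span (Set.range θ) with hJ
  set m := RingHom.ker (constantCoeff : MvPolynomial (Fin n) k →+* k) with hm
  haveI hmmax : m.IsMaximal := ker_constantCoeff_isMaximal
  have hmrad : m ≤ J.radical := le_radical_of_X_mem J hXrad
  have hJm : J ≤ m := by
    rw [hJ, Ideal.span_le]
    rintro _ ⟨i, rfl⟩
    exact (RingHom.mem_ker).mpr (hθ0 i)
  haveI : LocCoh.IsGorensteinRing (MvPolynomial (Fin n) k) :=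
    Groth.Agent.H98.Canon.isGorensteinRing_mvPolynomial k n
  have hGorB : LocCoh.IsGorensteinRing (MvPolynomial (Fin n) k ⧸ J) :=
    Groth.Agent.H81.CIGor.isGorensteinRing_quotient_span_range (MvPolynomial (Fin n) k) n θ
      (height_span_of_radical θ hXrad)
  haveI hArtB : IsArtinianRing (MvPolynomial (Fin n) k ⧸ J) :=
    isArtinianRing_quotient_of_le_radical J m hmrad
  have hJne : J ≠ ⊤ := fun h => hmmax.ne_top (top_le_iff.mp (h ▸ hJm))
  haveI : Nontrivial (MvPolynomial (Fin n) k ⧸ J) := Ideal.Quotient.nontrivial_iff.mpr hJne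
  obtain ⟨𝔪B, h𝔪B⟩ := Ideal.exists_maximal (MvPolynomial (Fin n) k ⧸ J)
  haveI := h𝔪B
  haveI := h𝔪B.isPrime
  have hcomap : 𝔪B.comap (Ideal.Quotient.mk J) = m := comap_eq_of_le_radical J m hmrad 𝔪B
  obtain ⟨z, hz⟩ := (isGorensteinRing_iff_of_isArtinianRing.mp hGorB) 𝔪B h𝔪B
  -- nilpotency
  obtain ⟨N, hN⟩ := Ideal.exists_pow_le_of_le_radical_of_fg hmrad (IsNoetherian.noetherian m)
  have h𝔪Bmap : 𝔪B = m.map (Ideal.Quotient.mk J) := by
    rw [← hcomap, Ideal.map_comap_of_surjective _ Ideal.Quotient.mk_surjective]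
  have hNB : 𝔪B ^ N = ⊥ := by
    rw [h𝔪Bmap, ← Ideal.map_pow, eq_bot_iff]
    refine (Ideal.map_mono hN).trans ?_
    rw [Ideal.map_quotient_self]
  have hδ : ∀ y ∈ 𝔪B, y * (Ideal.Quotient.mk J Δ) = 0 := by
    intro y hy
    obtain ⟨y', rfl⟩ := Ideal.Quotient.mk_surjective y
    have hy' : y' ∈ m := by
      rw [← hcomap]
      exact hy
    rw [← map_mul, Ideal.Quotient.eq_zero_iff_mem, mul_comm]
    exact hΔm y' ((RingHom.mem_ker).mp hy')
  have hb : (Ideal.Quotient.mk J t) ≠ 0 := by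
    rwa [Ne, Ideal.Quotient.eq_zero_iff_mem]
  have := mem_span_of_socle 𝔪B N hNB z hz _ hδ _ hb
  rw [Ideal.mem_span_singleton'] at this
  obtain ⟨f, hf⟩ := this
  obtain ⟨f, rfl⟩ := Ideal.Quotient.mk_surjective f
  refine ⟨f, ?_⟩
  rw [← Ideal.Quotient.eq_zero_iff_mem, map_sub, map_mul, hf, sub_self]

end BSide

section Main

variable {k : Type u} [Field k] {n : ℕ} {G : Type u} [Group G] [Fintype G]
  [MulSemiringAction G (MvPolynomial (Fin n) k)]
  (M : G → Matrix (Fin n) (Fin n) k)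
  (hC : ∀ (g : G) (c : k), g • (C c : MvPolynomial (Fin n) k) = C c)
  (hX : ∀ (g : G) (i : Fin n), g • (X i : MvPolynomial (Fin n) k) =
    ∑ j, M g j i • (X j : MvPolynomial (Fin n) k))
  (hcard : ((Fintype.card G : ℕ) : k) ≠ 0)
  (hmul : ∀ g h : G, M (g * h) = M g * M h) (hdet : ∀ g : G, (M g).det = 1)

/-- the Reynolds operator preserves an ideal generated by invariants -/
theorem rey_mem_span (θ : Fin n → MvPolynomial (Fin n) k) (hθInv : ∀ i, θ i ∈ Inv hC)
    {f : MvPolynomial (Fin n) k} (hf : f ∈ Ideal.span (Set.range θ)) :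
    rey hC f ∈ Ideal.span (Set.range θ) := by
  obtain ⟨c, rfl⟩ := Ideal.mem_span_range_iff_exists_fun.mp hf
  rw [map_sum]
  refine Ideal.sum_mem _ (fun i _ => ?_)
  rw [mul_comm, rey_mul_of_mem hC (hθInv i)]
  exact Ideal.mul_mem_right _ _ (Ideal.subset_span ⟨i, rfl⟩)

/-- the augmentation of the ring of invariants -/
noncomputable def augInv : Inv hC →+* k :=
  (constantCoeff : MvPolynomial (Fin n) k →+* k).comp (algebraMap (Inv hC) (MvPolynomial (Fin n) k))

theorem augInv_apply (a : Inv hC) : augInv hC a = constantCoeff (a : MvPolynomial (Fin n) k) := rfl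

instance ker_augInv_isMaximal : (RingHom.ker (augInv hC)).IsMaximal :=
  RingHom.ker_isMaximal_of_surjective _ (fun c => ⟨⟨C c, fun g => hC g c⟩, constantCoeff_C _ c⟩)

include hX hcard hmul hdet in
/-- **the quotient of the ring of invariants by homogeneous parameters is Gorenstein** -/
theorem isGorensteinRing_quotient_hsop (θ : Fin n → MvPolynomial (Fin n) k)
    (hθInv : ∀ i, θ i ∈ Inv hC) (hθ0 : ∀ i, constantCoeff (θ i) = 0)
    (hrad : ∀ f ∈ Inv hC, constantCoeff f = 0 → f ∈ (Ideal.span (Set.range θ)).radical) :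
    LocCoh.IsGorensteinRing
      (Inv hC ⧸ Ideal.span (Set.range (fun i => (⟨θ i, hθInv i⟩ : Inv hC)))) := by
  set J := Ideal.span (Set.range θ) with hJ
  have hXrad : ∀ i, (X i : MvPolynomial (Fin n) k) ∈ J.radical := X_mem_radical M hC hX J hrad
  obtain ⟨a, ha, hΔ⟩ := exists_det_mem_Inv M hC hX hcard hmul hdet θ hθInv hθ0
  set Δ := a.det with hΔdef
  have hΔJ : Δ ∉ J := det_notMem θ hXrad a ha
  have hΔm : ∀ f : MvPolynomial (Fin n) k, constantCoeff f = 0 → Δ * f ∈ J := by
    intro f hf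
    obtain ⟨c, rfl⟩ := Ideal.mem_span_range_iff_exists_fun.mp (mem_span_range_X hf)
    rw [Finset.mul_sum]
    refine Ideal.sum_mem _ (fun j _ => ?_)
    rw [mul_left_comm]
    exact Ideal.mul_mem_left _ _ (det_mul_mem θ X a ha j)
  -- the `A`-side
  set θA : Fin n → Inv hC := fun i => ⟨θ i, hθInv i⟩ with hθA
  set JA := Ideal.span (Set.range θA) with hJA
  have hmap : JA.map (algebraMap (Inv hC) (MvPolynomial (Fin n) k)) = J := by
    rw [hJA, Ideal.map_span, ← Set.range_comp]
    rfl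
  have hsub : ∀ b ∈ JA, (b : MvPolynomial (Fin n) k) ∈ J := by
    intro b hb
    rw [← hmap]
    exact Ideal.mem_map_of_mem _ hb
  have hcontr : ∀ b : Inv hC, (b : MvPolynomial (Fin n) k) ∈ J → b ∈ JA := by
    intro b hb
    apply mem_of_algebraMap_mem_map (reyInv hC) (reyInv_algebraMap hC hcard) JA b
    rw [hmap]
    exact hb
  haveI hNoeth : IsNoetherianRing (Inv hC) := isNoetherianRing_Inv hC hcard
  have h𝔫rad : RingHom.ker (augInv hC) ≤ JA.radical := by
    intro b hb
    obtain ⟨N, hN⟩ := hrad b b.2 ((RingHom.mem_ker).mp hb)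
    exact ⟨N, hcontr _ hN⟩
  haveI hArt : IsArtinianRing (Inv hC ⧸ JA) :=
    isArtinianRing_quotient_of_le_radical JA _ h𝔫rad
  rw [isGorensteinRing_iff_of_isArtinianRing]
  intro Mx hMx
  haveI := hMx
  haveI := hMx.isPrime
  have hcomap : Mx.comap (Ideal.Quotient.mk JA) = RingHom.ker (augInv hC) :=
    comap_eq_of_le_radical JA _ h𝔫rad Mx
  have hMx0 : ∀ y : Inv hC, Ideal.Quotient.mk JA y ∈ Mx →
      constantCoeff (y : MvPolynomial (Fin n) k) = 0 := by
    intro y hy
    have : y ∈ Mx.comap (Ideal.Quotient.mk JA) := hy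
    rw [hcomap] at this
    exact (RingHom.mem_ker).mp this
  refine ⟨Ideal.Quotient.mk JA ⟨Δ, hΔ⟩, ?_, ?_, ?_⟩
  · rw [Ne, Ideal.Quotient.eq_zero_iff_mem]
    intro h
    exact hΔJ (hsub _ h)
  · intro y hy
    obtain ⟨y', rfl⟩ := Ideal.Quotient.mk_surjective y
    rw [← map_mul, Ideal.Quotient.eq_zero_iff_mem]
    apply hcontr
    change (y' : MvPolynomial (Fin n) k) * Δ ∈ J
    rw [mul_comm]
    exact hΔm _ (hMx0 y' hy)
  · intro t ht
    obtain ⟨t', rfl⟩ := Ideal.Quotient.mk_surjective t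
    by_cases htJ : t' ∈ JA
    · refine ⟨0, ?_⟩
      rw [zero_mul, Ideal.Quotient.eq_zero_iff_mem]
      exact htJ
    have htJ' : (t' : MvPolynomial (Fin n) k) ∉ J := fun h => htJ (hcontr t' h)
    obtain ⟨f, hf⟩ := exists_sub_mul_mem θ hθ0 hXrad Δ hΔm _ htJ'
    -- apply the Reynolds operator
    have h1 := rey_mem_span hC θ hθInv hf
    rw [map_sub, rey_of_mem hC hcard hΔ, mul_comm, rey_mul_of_mem hC t'.2] at h1
    set c := constantCoeff (rey hC f) with hc
    -- `rey f - C c` is an invariant without constant term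
    have h2 : (t' : MvPolynomial (Fin n) k) * (rey hC f - C c) ∈ J := by
      have hinv : rey hC f - C c ∈ Inv hC :=
        (Inv hC).sub_mem (rey_mem_Inv hC f) (fun g => hC g c)
      have h0 : constantCoeff (rey hC f - C c) = 0 := by
        rw [map_sub, constantCoeff_C, hc, sub_self]
      have hmem : Ideal.Quotient.mk JA ⟨rey hC f - C c, hinv⟩ ∈ Mx := by
        have : (⟨rey hC f - C c, hinv⟩ : Inv hC) ∈ Mx.comap (Ideal.Quotient.mk JA) := by
          rw [hcomap]
          exact (RingHom.mem_ker).mpr h0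
        exact this
      have h3 := ht _ hmem
      rw [← map_mul, Ideal.Quotient.eq_zero_iff_mem] at h3
      have h4 := hsub _ h3
      rw [mul_comm]
      exact h4
    have h5 : Δ - (t' : MvPolynomial (Fin n) k) * C c ∈ J := by
      have e : Δ - (t' : MvPolynomial (Fin n) k) * C c =
          (Δ - (t' : MvPolynomial (Fin n) k) * rey hC f) +
            (t' : MvPolynomial (Fin n) k) * (rey hC f - C c) := by ring
      rw [e]
      exact Ideal.add_mem _ h1 h2
    have hc0 : c ≠ 0 := by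
      intro h0
      rw [h0, map_zero, mul_zero, sub_zero] at h5
      exact hΔJ h5
    refine ⟨Ideal.Quotient.mk JA ⟨C c⁻¹, fun g => hC g c⁻¹⟩, ?_⟩
    rw [← map_mul, Ideal.Quotient.eq]
    apply hcontr
    change (t' : MvPolynomial (Fin n) k) - C c⁻¹ * Δ ∈ J
    have e : (t' : MvPolynomial (Fin n) k) - C c⁻¹ * Δ =
        - (C c⁻¹ * (Δ - (t' : MvPolynomial (Fin n) k) * C c)) := by
      have hcc : (C c⁻¹ : MvPolynomial (Fin n) k) * C c = 1 := by
        rw [← map_mul, inv_mul_cancel₀ hc0, map_one]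
      calc (t' : MvPolynomial (Fin n) k) - C c⁻¹ * Δ
          = (t' : MvPolynomial (Fin n) k) * 1 - C c⁻¹ * Δ := by rw [mul_one]
        _ = (t' : MvPolynomial (Fin n) k) * (C c⁻¹ * C c) - C c⁻¹ * Δ := by rw [hcc]
        _ = - (C c⁻¹ * (Δ - (t' : MvPolynomial (Fin n) k) * C c)) := by ring
    rw [e]
    exact Ideal.neg_mem_iff _ |>.mpr (Ideal.mul_mem_left _ _ h5)

end Main

end Groth.Agent.H81.Wat
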