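import Mathlib
import Groth.Agent.H81.Wat.InvSocle
import Groth.Agent.H81.Wat.GradedReg
import Groth.Agent.H81.Wat.GorSeq
import Groth.Agent.H93.DepthRetract
import Groth.Agent.H85.GrLCBridge
import Groth.Agent.H85.SegreOneCMC
import Groth.Agent.H98.Canon.GorBwd

set_option autoImplicit false
set_option linter.unusedSectionVars false
set_option linter.unusedVariables false
set_option linter.style.haveILetI false
universe u

/-!
# Watanabe's theorem: the ring of invariants of a finite subgroup of `SL_n(k)` of order invertible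
in `k` is Gorenstein  (helper81)
-/

namespace Groth.Agent.H81.Wat

open MvPolynomial GrSyz Groth.Agent.H77 RingTheory.Sequence Groth.Agent.H98.GrStar
  Groth.Agent.H85.GrConv

section Main

variable {k : Type u} [Field k] {n : ℕ} {G : Type u} [Group G] [Fintype G]
  [MulSemiringAction G (MvPolynomial (Fin n) k)]
  (M : G → Matrix (Fin n) (Fin n) k)
  (hC : ∀ (g : G) (c : k), g • (C c : MvPolynomial (Fin n) k) = C c)
  (hX : ∀ (g : G) (i : Fin n), g • (X i : MvPolynomial (Fin n) k) =
    ∑ j, M g j i • (X j : MvPolynomial (Fin n) k))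
  (hcard : ((Fintype.card G : ℕ) : k) ≠ 0)
  (hmul : ∀ g h : G, M (g * h) = M g * M h) (hdet : ∀ g : G, (M g).det = 1)

include hcard in
/-- invariants forming a regular sequence on the polynomial ring form a regular sequence on the ring
of invariants -/
theorem isWeaklyRegular_Inv (θ : Fin n → MvPolynomial (Fin n) k) (hθInv : ∀ i, θ i ∈ Inv hC)
    (h : IsWeaklyRegular (MvPolynomial (Fin n) k) (List.ofFn θ)) :
    IsWeaklyRegular (Inv hC) (List.ofFn (fun i => (⟨θ i, hθInv i⟩ : Inv hC))) := by
  apply Groth.Agent.H93.isWeaklyRegular_of_retract _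
    (Algebra.linearMap (Inv hC) (MvPolynomial (Fin n) k)) (reyInv hC)
  · exact LinearMap.ext (fun a => reyInv_algebraMap hC hcard a)
  · rw [← isWeaklyRegular_map_algebraMap_iff (MvPolynomial (Fin n) k) (MvPolynomial (Fin n) k),
      List.map_ofFn]
    exact h

include hX hcard hmul hdet in
/-- **Watanabe's theorem** for the subalgebra of invariants -/
theorem isGorensteinRing_Inv : LocCoh.IsGorensteinRing (Inv hC) := by
  obtain ⟨θ, hθInv, hθpos, hrad⟩ := exists_hsop_Inv M hC hX hcard
  have hθ0 : ∀ i, constantCoeff (θ i) = 0 := by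
    intro i
    obtain ⟨d, hd0, hd⟩ := hθpos i
    exact constantCoeff_eq_zero_of_mem_stdGr_of_pos hd hd0
  have hXrad := X_mem_radical M hC hX _ hrad
  have hregS := isWeaklyRegular_of_radical θ hθpos hXrad
  have hregA := isWeaklyRegular_Inv hC hcard θ hθInv hregS
  have hG := isGorensteinRing_quotient_hsop M hC hX hcard hmul hdet θ hθInv hθ0 hrad
  set θA : Fin n → Inv hC := fun i => ⟨θ i, hθInv i⟩ with hθA
  have hG' : LocCoh.IsGorensteinRing (Inv hC ⧸ Ideal.ofList (List.ofFn θA)) :=
    Groth.Agent.H81.ACILink.isGorensteinRing_of_ringEquiv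
      (Ideal.quotEquivOfEq (Groth.Agent.H81.CIGor.ofList_ofFn (Inv hC) θA).symm) hG
  haveI hNoeth : IsNoetherianRing (Inv hC) := isNoetherianRing_Inv hC hcard
  letI := grInv_gradedAlgebra M hC hX
  have hpos' := Groth.Agent.H85.SegreOneCM.selfGr_neg (grInv hC) (grInv_neg hC)
  have h0' := Groth.Agent.H85.SegreOneCM.isField_deg0_selfGr (grInv hC) (grInv_zero hC)
  have hstar := Groth.Agent.H85.GrLCBridge.isStarLocal_irrH (selfGr (grInv hC)) hpos' h0'
  have hmax := Groth.Agent.H85.GrLCBridge.irrI_isMaximal (selfGr (grInv hC)) hpos' h0'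
  haveI hprime : (Groth.Agent.H85.GrLCBridge.irrH (selfGr (grInv hC))).toIdeal.IsPrime :=
    hmax.isPrime
  have hle : Ideal.ofList (List.ofFn θA) ≤
      (Groth.Agent.H85.GrLCBridge.irrH (selfGr (grInv hC))).toIdeal := by
    rw [Groth.Agent.H81.CIGor.ofList_ofFn, Ideal.span_le]
    rintro _ ⟨i, rfl⟩
    obtain ⟨d, hd0, hd⟩ := hθpos i
    exact Groth.Agent.H85.GrLCBridge.mem_irrI_of_pos (selfGr (grInv hC)) hd0 hd
  have hGq := gor_atPrime_of_quotient_ofList n (Inv hC) (List.ofFn θA) (List.length_ofFn)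
    hregA hG' _ hle
  obtain ⟨d, hd⟩ := Groth.Agent.H98.Canon.exists_bassNum_eq_zero_of_ne _ hGq
  exact Groth.Agent.H98.Canon.isGorensteinRing_of_bassNum (selfGr (grInv hC)) hstar d
    (fun i hi => hd i (ne_of_gt hi))

end Main

end Groth.Agent.H81.Wat
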